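import Mathlib

/-!
# The twisted inversion is incompatible with triple transitivity
-/

set_option autoImplicit false

namespace Cfsg.Agent.Lib.H4.S3T.Odd

/-- an additive subgroup containing more than half of the elements is everything -/
theorem addSubgroup_eq_top_of_big' {W : Type*} [AddGroup W] [Finite W] {A : Set W}
    (hA : 2 * A.ncard + 1 = Nat.card W) (V : AddSubgroup W) (hAV : A ⊆ V)
    (h0 : (0 : W) ∉ A) : V = ⊤ := by
  have h1 : A.ncard + 1 ≤ Nat.card V := by
    have e1 : (insert 0 A).ncard = A.ncard + 1 := Set.ncard_insert_of_notMem h0 (Set.toFinite A)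
    have e2 : (insert 0 A).ncard ≤ (V : Set W).ncard := by
      apply Set.ncard_le_ncard _ (Set.toFinite _)
      intro x hx
      rcases hx with rfl | hx
      · exact V.zero_mem
      · exact hAV hx
    rw [← e1]
    calc (insert 0 A).ncard ≤ (V : Set W).ncard := e2
      _ = Nat.card V := (Nat.card_coe_set_eq _).symm
  obtain ⟨m, hm⟩ := AddSubgroup.card_addSubgroup_dvd_card V
  have hpos : 0 < Nat.card W := Nat.card_pos
  have hm1 : m = 1 := by
    rcases Nat.lt_or_ge m 2 with h | h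
    · interval_cases m
      · rw [mul_zero] at hm; omega
      · rfl
    · exfalso
      have : Nat.card V * 2 ≤ Nat.card V * m := Nat.mul_le_mul_left _ h
      omega
  rw [hm1, mul_one] at hm
  exact (AddSubgroup.card_eq_iff_eq_top V).1 hm.symm

theorem kt_false {F : Type*} [Field F] [Finite F] (h2 : (2 : F) ≠ 0) (A : Set F)
    (h0 : (0 : F) ∉ A) (h1 : (1 : F) ∈ A) (hneg : (-1 : F) ∈ A)
    (hmul : ∀ a ∈ A, ∀ b ∈ A, a * b ∈ A) (hinvA' : ∀ a ∈ A, ∃ b ∈ A, a * b = 1)
    (hA : 2 * A.ncard + 1 = Nat.card F)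
    (ρ : F → F) (hρA : ∀ x ∈ A, x * ρ x = 1) (hρN : ∀ x, x ∉ A → x ≠ 0 → x * ρ x = -1)
    (hKT : ∀ x, x ≠ 0 → x + 1 ≠ 0 → ρ x + 1 ≠ 0 → ρ (ρ x + 1) = -ρ (x + 1) + 1) : False := by
  classical
  have hinvA : ∀ a ∈ A, a⁻¹ ∈ A := by
    intro a ha
    obtain ⟨b, hb, hab⟩ := hinvA' a ha
    rw [← eq_inv_of_mul_eq_one_right hab]
    exact hb
  -- the complement
  obtain ⟨NT, hNT⟩ : ∃ NT : Set F, NT = {x | x ∉ A ∧ x ≠ 0} := ⟨_, rfl⟩
  have memNT : ∀ x, x ∈ NT ↔ x ∉ A ∧ x ≠ 0 := by
    intro x; rw [hNT]; rfl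
  -- the complement is not empty
  have hne : ∃ x₀, x₀ ∈ NT := by
    by_contra hcon
    push Not at hcon
    have hall : ∀ x : F, x ≠ 0 → x ∈ A := by
      intro x hx
      by_contra hxA
      exact hcon x ((memNT x).2 ⟨hxA, hx⟩)
    have hsub : ((Set.univ : Set F) \ {0}) ⊆ A := by
      intro x hx
      exact hall x (fun h => hx.2 (by rw [h]; rfl))
    have hcard1 : ((Set.univ : Set F) \ {0}).ncard = Nat.card F - 1 := by
      rw [Set.ncard_diff_singleton_of_mem (Set.mem_univ _), Set.ncard_univ]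
    have hle := Set.ncard_le_ncard hsub (Set.toFinite A)
    have h1F : 1 < Nat.card F := Finite.one_lt_card
    omega
  -- multiplication by elements of `A` preserves the complement
  have hAN : ∀ c ∈ A, ∀ x ∈ NT, c * x ∈ NT := by
    intro c hc x hx
    rw [memNT] at hx ⊢
    have hc0 : c ≠ 0 := fun h => h0 (h ▸ hc)
    refine ⟨fun hcx => hx.1 ?_, mul_ne_zero hc0 hx.2⟩
    have := hmul _ (hinvA c hc) _ hcx
    rwa [← mul_assoc, inv_mul_cancel₀ hc0, one_mul] at this
  -- find `x ∉ A` with `x + 1 ∈ A`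
  have hex : ∃ x, x ∈ NT ∧ x + 1 ∈ A := by
    by_contra hcon
    push Not at hcon
    have hstep : ∀ x ∈ NT, x + 1 ∈ NT := by
      intro x hx
      rw [memNT]
      refine ⟨hcon x hx, fun h => ?_⟩
      have : x = -1 := eq_neg_of_add_eq_zero_left h
      rw [this, memNT] at hx
      exact hx.1 hneg
    have hstepA : ∀ c ∈ A, ∀ x ∈ NT, x + c ∈ NT := by
      intro c hc x hx
      have hc0 : c ≠ 0 := fun h => h0 (h ▸ hc)
      have h3 : c⁻¹ * x ∈ NT := hAN _ (hinvA c hc) x hx
      have h4 := hAN c hc _ (hstep _ h3)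
      have : c * (c⁻¹ * x + 1) = x + c := by
        field_simp
      rwa [this] at h4
    let V : AddSubgroup F :=
      { carrier := {w | ∀ x ∈ NT, x + w ∈ NT ∧ x - w ∈ NT}
        zero_mem' := by
          intro x hx
          rw [add_zero, sub_zero]
          exact ⟨hx, hx⟩
        add_mem' := by
          intro w w' hw hw' x hx
          constructor
          · rw [← add_assoc]
            exact (hw' _ (hw x hx).1).1
          · rw [← sub_sub]
            exact (hw' _ (hw x hx).2).2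
        neg_mem' := by
          intro w hw x hx
          rw [sub_neg_eq_add, ← sub_eq_add_neg]
          exact ⟨(hw x hx).2, (hw x hx).1⟩ }
    have hAV : A ⊆ V := by
      intro c hc x hx
      refine ⟨hstepA c hc x hx, ?_⟩
      have : -c ∈ A := by
        have := hmul _ hneg _ hc
        rwa [neg_one_mul] at this
      rw [sub_eq_add_neg]
      exact hstepA _ this x hx
    have hV : V = ⊤ := addSubgroup_eq_top_of_big' hA V hAV h0
    obtain ⟨x₀, hx₀⟩ := hne
    have hmem : -x₀ ∈ V := by rw [hV]; trivial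
    have := (hmem x₀ hx₀).1
    rw [add_neg_cancel, memNT] at this
    exact this.2 rfl
  obtain ⟨x, hxN, hx1⟩ := hex
  rw [memNT] at hxN
  obtain ⟨hxA, hx0⟩ := hxN
  have hx10 : x + 1 ≠ 0 := fun h => h0 (h ▸ hx1)
  have e1 : x * ρ x = -1 := hρN x hxA hx0
  have e2 : (x + 1) * ρ (x + 1) = 1 := hρA _ hx1
  have hxne1 : x ≠ 1 := fun h => hxA (h ▸ h1)
  have hy0 : ρ x + 1 ≠ 0 := by
    intro h
    have : ρ x = -1 := eq_neg_of_add_eq_zero_left h
    rw [this] at e1
    apply hxne1
    linear_combination -e1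
  have e3 := hKT x hx0 hx10 hy0
  have e4 : (ρ x + 1) * ρ (ρ x + 1) = 1 ∨ (ρ x + 1) * ρ (ρ x + 1) = -1 := by
    by_cases hy : ρ x + 1 ∈ A
    · exact Or.inl (hρA _ hy)
    · exact Or.inr (hρN _ hy hy0)
  rw [e3] at e4
  -- now pure algebra
  have k1 : x * (ρ x + 1) = x - 1 := by linear_combination e1
  have k2 : (x + 1) * (-ρ (x + 1) + 1) = x := by linear_combination -e2
  rcases e4 with e | e
  · have : (x - 1) * x = x * (x + 1) := by
      calc (x - 1) * x = (x * (ρ x + 1)) * ((x + 1) * (-ρ (x + 1) + 1)) := by rw [k1, k2]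
        _ = x * (x + 1) * ((ρ x + 1) * (-ρ (x + 1) + 1)) := by ring
        _ = x * (x + 1) := by rw [e, mul_one]
    have h3 : (2 : F) * x = 0 := by linear_combination -this
    rcases mul_eq_zero.1 h3 with h | h
    · exact h2 h
    · exact hx0 h
  · have : (x - 1) * x = -(x * (x + 1)) := by
      calc (x - 1) * x = (x * (ρ x + 1)) * ((x + 1) * (-ρ (x + 1) + 1)) := by rw [k1, k2]
        _ = x * (x + 1) * ((ρ x + 1) * (-ρ (x + 1) + 1)) := by ring
        _ = -(x * (x + 1)) := by rw [e]; ring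
    have h3 : (2 : F) * (x * x) = 0 := by linear_combination this
    rcases mul_eq_zero.1 h3 with h | h
    · exact h2 h
    · exact hx0 (mul_self_eq_zero.1 h)

end Cfsg.Agent.Lib.H4.S3T.Odd
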