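import Mathlib
import Cfsg.Agent.Lib.H4.NearFieldBasic

/-!
# Near-fields of odd characteristic: `-1` is central
-/

set_option autoImplicit false

namespace Cfsg.Agent.Lib.H4.S3T.Odd

open Cfsg.Agent.Lib.H4.NF

variable {F : Type*} [Cfsg.NearField F]

theorem neg_one_mul' (x : F) : (-1 : F) * x = -x := by
  rw [neg_mul', one_mul]

theorem neg_one_mul_neg_one : (-1 : F) * (-1) = 1 := by
  rw [neg_one_mul', neg_neg]

/-- left cancellation -/
theorem mul_left_cancel' {x a b : F} (hx : x ≠ 0) (h : x * a = x * b) : a = b := by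
  obtain ⟨d, -, hd⟩ := exists_inv' hx
  calc a = (d * x) * a := by rw [hd, one_mul]
    _ = d * (x * a) := by rw [mul_assoc]
    _ = d * (x * b) := by rw [h]
    _ = (d * x) * b := by rw [mul_assoc]
    _ = b := by rw [hd, one_mul]

/-- right cancellation -/
theorem mul_right_cancel' {x a b : F} (hx : x ≠ 0) (h : a * x = b * x) : a = b := by
  obtain ⟨d, hd, -⟩ := exists_inv' hx
  calc a = a * (x * d) := by rw [hd, mul_one]
    _ = (a * x) * d := by rw [mul_assoc]
    _ = (b * x) * d := by rw [h]
    _ = b * (x * d) := by rw [mul_assoc]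
    _ = b := by rw [hd, mul_one]

/-- the only square roots of `1` are `1` and `-1` -/
theorem eq_one_or_neg_one_of_sq (hadd : ∀ x y : F, x + y = y + x) {e : F} (he : e * e = 1) :
    e = 1 ∨ e = -1 := by
  by_cases h1 : (1 : F) + e = 0
  · right
    exact (neg_eq_of_add_eq_zero_right h1).symm
  · left
    have h2 : (1 + e) * e = (1 + e) * 1 := by
      rw [rdistrib, one_mul, he, mul_one, hadd]
    exact mul_left_cancel' h1 h2

/-- `-1` is central -/
theorem mul_neg_one' (hadd : ∀ x y : F, x + y = y + x) (h2 : (1 : F) ≠ -1) (x : F) :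
    x * (-1) = -x := by
  by_cases hx : x = 0
  · rw [hx, zero_mul', neg_zero]
  obtain ⟨d, hxd, hdx⟩ := exists_inv' hx
  have hw : (x * (-1) * d) * (x * (-1) * d) = 1 := by
    calc (x * (-1) * d) * (x * (-1) * d) = x * (-1) * (d * x) * (-1) * d := by
          simp only [mul_assoc]
      _ = 1 := by rw [hdx, mul_one, mul_assoc x, neg_one_mul_neg_one, mul_one, hxd]
  rcases eq_one_or_neg_one_of_sq hadd hw with h | h
  · exfalso
    have h3 : x * (-1) = x := by
      calc x * (-1) = x * (-1) * (d * x) := by rw [hdx, mul_one]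
        _ = (x * (-1) * d) * x := by simp only [mul_assoc]
        _ = x := by rw [h, one_mul]
    have h4 : x * (-1) = x * 1 := by rw [h3, mul_one]
    exact h2 (mul_left_cancel' hx h4).symm
  · calc x * (-1) = x * (-1) * (d * x) := by rw [hdx, mul_one]
      _ = (x * (-1) * d) * x := by simp only [mul_assoc]
      _ = -x := by rw [h, neg_one_mul']

theorem mul_neg' (hadd : ∀ x y : F, x + y = y + x) (h2 : (1 : F) ≠ -1) (x y : F) :
    x * (-y) = -(x * y) := by
  rw [← neg_one_mul' y, ← mul_assoc, mul_neg_one' hadd h2, neg_mul']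

end Cfsg.Agent.Lib.H4.S3T.Odd
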