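import Mathlib

/-!
# An involution of an abelian group of odd order anticommuting with an injective endomorphism
forces the order to be a square
-/

set_option autoImplicit false

namespace Cfsg.Agent.Lib.H4.S3T.Odd

theorem eq_zero_of_two_nsmul {W : Type*} [AddCommGroup W] [Finite W] (hodd : Odd (Nat.card W))
    {w : W} (hw : 2 • w = 0) : w = 0 := by
  have h1 : addOrderOf w ∣ 2 := addOrderOf_dvd_of_nsmul_eq_zero hw
  have h2 : addOrderOf w ∣ Nat.card W := addOrderOf_dvd_natCard w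
  have h3 : addOrderOf w ∣ Nat.gcd 2 (Nat.card W) := Nat.dvd_gcd h1 h2
  have h4 : Nat.gcd 2 (Nat.card W) = 1 := Nat.coprime_two_left.2 hodd
  rw [h4, Nat.dvd_one] at h3
  exact AddMonoid.addOrderOf_eq_one_iff.1 h3

theorem isSquare_card_of_anticommuting {W : Type*} [AddCommGroup W] [Finite W]
    (hodd : Odd (Nat.card W)) (τ μ : W →+ W) (hτ : ∀ w, τ (τ w) = w)
    (hμ : Function.Injective μ) (hanti : ∀ w, μ (τ w) = -τ (μ w)) : IsSquare (Nat.card W) := by
  classical
  obtain ⟨Wp, hWp⟩ : ∃ Wp : AddSubgroup W, ∀ w, w ∈ Wp ↔ τ w = w := by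
    refine ⟨(τ - AddMonoidHom.id W).ker, fun w => ?_⟩
    rw [AddMonoidHom.mem_ker, AddMonoidHom.sub_apply, AddMonoidHom.id_apply, sub_eq_zero]
  obtain ⟨Wm, hWm⟩ : ∃ Wm : AddSubgroup W, ∀ w, w ∈ Wm ↔ τ w = -w := by
    refine ⟨(τ + AddMonoidHom.id W).ker, fun w => ?_⟩
    rw [AddMonoidHom.mem_ker, AddMonoidHom.add_apply, AddMonoidHom.id_apply,
      add_eq_zero_iff_eq_neg]
  -- `μ` interchanges the two eigenspaces
  have hpm : ∀ w ∈ Wp, μ w ∈ Wm := by
    intro w hw
    rw [hWm]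
    have := hanti w
    rw [(hWp w).1 hw] at this
    exact (neg_eq_iff_eq_neg.2 this).symm
  have hmp : ∀ w ∈ Wm, μ w ∈ Wp := by
    intro w hw
    rw [hWp]
    have := hanti w
    rw [(hWm w).1 hw, map_neg, neg_inj] at this
    exact this.symm
  have hle1 : Nat.card Wp ≤ Nat.card Wm := by
    apply Nat.card_le_card_of_injective (fun w : Wp => (⟨μ w.1, hpm w.1 w.2⟩ : Wm))
    intro a b hab
    exact Subtype.ext (hμ (congrArg Subtype.val hab))
  have hle2 : Nat.card Wm ≤ Nat.card Wp := by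
    apply Nat.card_le_card_of_injective (fun w : Wm => (⟨μ w.1, hmp w.1 w.2⟩ : Wp))
    intro a b hab
    exact Subtype.ext (hμ (congrArg Subtype.val hab))
  have heq : Nat.card Wp = Nat.card Wm := le_antisymm hle1 hle2
  -- the projection
  obtain ⟨π, hπ⟩ : ∃ π : W →+ W, ∀ w, π w = w - τ w :=
    ⟨AddMonoidHom.id W - τ, fun w => rfl⟩
  have hker : π.ker = Wp := by
    ext w
    rw [AddMonoidHom.mem_ker, hπ, hWp, sub_eq_zero]
    exact eq_comm
  have hrange : π.range = Wm := by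
    ext w
    constructor
    · rintro ⟨v, rfl⟩
      rw [hWm, hπ, map_sub, hτ, neg_sub]
    · intro hw
      obtain ⟨k, hk⟩ := hodd
      refine ⟨(k + 1) • w, ?_⟩
      rw [hπ, map_nsmul, (hWm w).1 hw, smul_neg, sub_neg_eq_add, ← add_nsmul]
      have : k + 1 + (k + 1) = Nat.card W + 1 := by omega
      rw [this, add_nsmul, one_nsmul, card_nsmul_eq_zero', zero_add]
  have hcard : Nat.card W = Nat.card Wp * Nat.card Wm := by
    rw [← hker, ← hrange, ← AddSubgroup.index_ker, AddSubgroup.card_mul_index]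
  exact ⟨Nat.card Wp, by rw [hcard, heq]⟩

theorem not_isSquare_prime_pow_odd {p f : ℕ} (hp : p.Prime) (hf : Odd f) : ¬ IsSquare (p ^ f) := by
  rintro ⟨m, hm⟩
  haveI : Fact p.Prime := ⟨hp⟩
  have hm0 : m ≠ 0 := by
    rintro rfl
    rw [mul_zero] at hm
    exact (pow_pos hp.pos f).ne' hm
  have h1 : padicValNat p (p ^ f) = f := padicValNat.prime_pow f
  rw [hm, padicValNat.mul hm0 hm0] at h1
  obtain ⟨k, hk⟩ := hf
  omega

end Cfsg.Agent.Lib.H4.S3T.Odd
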