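import Mathlib
import Cfsg.Agent.Lib.H4.S3T.Odd.NFBasic
import Cfsg.Agent.Lib.H4.S3T.Odd.SqLemma

/-!
# A finite near-field of odd characteristic `p ≡ 1 (mod 4)` containing a quaternion pair
has square order
-/

set_option autoImplicit false

namespace Cfsg.Agent.Lib.H4.S3T.Odd

open Cfsg.Agent.Lib.H4.NF

variable {F : Type*} [Cfsg.NearField F]

/-- the additive commutative group structure of a near-field with commutative addition -/
@[reducible] def addCommGroupOfNF (hadd : ∀ x y : F, x + y = y + x) : AddCommGroup F :=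
  { (inferInstance : AddGroup F) with add_comm := hadd }

/-- right multiplication as an additive map -/
def Rm (a : F) : F →+ F where
  toFun x := x * a
  map_zero' := zero_mul' a
  map_add' x y := rdistrib x y a

@[simp] theorem Rm_apply (a x : F) : Rm a x = x * a := rfl

theorem isSquare_card_of_quaternion [Finite F] (hadd : ∀ x y : F, x + y = y + x)
    (h2 : (1 : F) ≠ -1) {p : ℕ} (hp : ∀ x : F, p • x = 0) (hodd : Odd (Nat.card F)) {ι : ℕ}
    (hι : p ∣ ι * ι + 1) {α β : F} (hα : α * α = -1) (hβ : β ≠ 0)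
    (hαβ : β * α = -(α * β)) : IsSquare (Nat.card F) := by
  letI : AddCommGroup F := addCommGroupOfNF hadd
  have hsq : ∀ x : F, (ι * ι) • x = -x := by
    intro x
    obtain ⟨c, hc⟩ := hι
    have h0 : (ι * ι + 1) • x = 0 := by
      rw [hc, mul_comm, mul_nsmul, hp]
    rw [add_nsmul, one_nsmul] at h0
    exact eq_neg_of_add_eq_zero_left h0
  apply isSquare_card_of_anticommuting hodd (ι • Rm α) (Rm β)
  · intro x
    show ι • ((ι • (x * α)) * α) = x
    rw [nsmul_mul', ← mul_nsmul, mul_assoc, hα, mul_neg_one' hadd h2, neg_nsmul, hsq, neg_neg]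
  · intro x y hxy
    exact mul_right_cancel' hβ hxy
  · intro x
    show (ι • (x * α)) * β = -(ι • ((x * β) * α))
    rw [nsmul_mul', mul_assoc, mul_assoc, hαβ, mul_neg' hadd h2, neg_nsmul, neg_neg]

end Cfsg.Agent.Lib.H4.S3T.Odd
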