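import Mathlib

/-!
# A quaternion pair in the generalized quaternion groups
-/

set_option autoImplicit false

namespace Cfsg.Agent.Lib.H4.S3T.Odd

open QuaternionGroup

theorem exists_quat_pair (n : ℕ) (hn : 1 ≤ n) :
    ∃ I J Z : QuaternionGroup (2 ^ n), I * I = Z ∧ J * J = Z ∧ Z ≠ 1 ∧ Z * Z = 1 ∧
      I * J = Z * (J * I) ∧ orderOf J = 4 := by
  obtain ⟨k, rfl⟩ : ∃ k, n = k + 1 := ⟨n - 1, by omega⟩
  haveI : NeZero (2 ^ (k + 1)) := ⟨by positivity⟩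
  have hm : ((2 ^ (k + 1) : ℕ) : ZMod (2 * 2 ^ (k + 1))) =
      ((2 ^ k : ℕ) : ZMod (2 * 2 ^ (k + 1))) + ((2 ^ k : ℕ) : ZMod (2 * 2 ^ (k + 1))) := by
    rw [← Nat.cast_add]
    congr 1
    ring
  refine ⟨a ((2 ^ k : ℕ) : ZMod (2 * 2 ^ (k + 1))), xa 0,
    a ((2 ^ (k + 1) : ℕ) : ZMod (2 * 2 ^ (k + 1))), ?_, ?_, ?_, ?_, ?_, orderOf_xa 0⟩
  · rw [a_mul_a, hm]
  · rw [xa_mul_xa, add_zero, sub_zero]
  · rw [one_def]
    intro h
    have h1 : ((2 ^ (k + 1) : ℕ) : ZMod (2 * 2 ^ (k + 1))) = 0 := by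
      injection h
    rw [ZMod.natCast_eq_zero_iff] at h1
    have := Nat.le_of_dvd (by positivity) h1
    have : 0 < 2 ^ (k + 1) := by positivity
    omega
  · rw [a_mul_a, one_def, ← Nat.cast_add]
    congr 1
    rw [← two_mul]
    exact ZMod.natCast_self _
  · rw [a_mul_xa, xa_mul_a, a_mul_xa, zero_sub, zero_add, hm]
    congr 1
    ring

end Cfsg.Agent.Lib.H4.S3T.Odd
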