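import Mathlib
import Cfsg.Agent.Lib.H4.S3T.NearField
import Cfsg.Agent.Lib.H4.S3T.Odd.NFBasic

/-!
# The dictionary between the two-point stabilizer and the multiplicative group of the near-field
-/

set_option autoImplicit false

namespace Cfsg.Agent.Lib.H4.S3T.Odd

open MulAction Cfsg.Agent.Lib.H4.NF Cfsg.Agent.Lib.H4.S3T

variable {G : Type*} [Group G] {X : Type*} [MulAction G X]

/-- the context: a sharply triply transitive group, a point `i`, and a near-field structure on
the other points for which the stabilizer of `i` consists of the maps `x ↦ x * a + b` -/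
structure Ctx (G : Type*) [Group G] (X : Type*) [MulAction G X] (i : X)
    [Cfsg.NearField (Pts i)] : Prop where
  sharp : Sharp3 G X
  h1 : ∀ g : G, g • i = i → ∃ a b : Pts i, a ≠ 0 ∧ ∀ x : Pts i, g • x.1 = (x * a + b).1
  h2 : ∀ a b : Pts i, a ≠ 0 → ∃ g : G, g • i = i ∧ ∀ x : Pts i, g • x.1 = (x * a + b).1
  hadd : ∀ x y : Pts i, x + y = y + x

variable {i : X} [Cfsg.NearField (Pts i)]

/-- `k` fixes `i` and acts on the other points as the right multiplication by `a` -/
def Rep (i : X) [Cfsg.NearField (Pts i)] (k : G) (a : Pts i) : Prop :=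
  k • i = i ∧ ∀ x : Pts i, k • x.1 = (x * a).1

theorem Rep.one : Rep i (1 : G) (1 : Pts i) :=
  ⟨one_smul _ _, fun x => by rw [one_smul, mul_one]⟩

theorem Rep.mul {k k' : G} {a a' : Pts i} (hk : Rep i k a) (hk' : Rep i k' a') :
    Rep i (k * k') (a' * a) := by
  refine ⟨by rw [mul_smul, hk'.1, hk.1], fun x => ?_⟩
  rw [mul_smul, hk'.2, hk.2, mul_assoc]

theorem Rep.fix_zero {k : G} {a : Pts i} (hk : Rep i k a) :
    k • ((0 : Pts i) : X) = ((0 : Pts i) : X) := by
  rw [hk.2, zero_mul']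

theorem Rep.smul_one {k : G} {a : Pts i} (hk : Rep i k a) :
    k • ((1 : Pts i) : X) = (a : X) := by
  rw [hk.2, one_mul]

theorem Rep.ne_zero {k : G} {a : Pts i} (hk : Rep i k a) : a ≠ 0 := by
  rintro rfl
  have h0 := hk.2 0
  have h1 := hk.2 1
  rw [mul_zero'] at h0 h1
  have : ((0 : Pts i) : X) = ((1 : Pts i) : X) := smul_left_cancel k (h0.trans h1.symm)
  exact Cfsg.NearField.zero_ne_one (Subtype.ext this)

theorem Rep.eq_right {k : G} {a a' : Pts i} (hk : Rep i k a) (hk' : Rep i k a') : a = a' := by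
  have h1 := hk.2 1
  have h2 := hk'.2 1
  rw [one_mul] at h1 h2
  exact Subtype.ext (h1.symm.trans h2)

theorem Rep.inv {k : G} {a b : Pts i} (hk : Rep i k a) (hba : b * a = 1) : Rep i k⁻¹ b := by
  refine ⟨by rw [inv_smul_eq_iff, hk.1], fun x => ?_⟩
  rw [inv_smul_eq_iff, hk.2, mul_assoc, hba, mul_one]

theorem Ctx.eq_left (c : Ctx G X i) {k k' : G} {a : Pts i} (hk : Rep i k a) (hk' : Rep i k' a) :
    k = k' := by
  have hzi : ((0 : Pts i) : X) ≠ i := (0 : Pts i).2
  have hei : ((1 : Pts i) : X) ≠ i := (1 : Pts i).2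
  have hze : ((0 : Pts i) : X) ≠ ((1 : Pts i) : X) := fun e =>
    Cfsg.NearField.zero_ne_one (Subtype.ext e)
  apply c.sharp.eq_of_agree hzi.symm hei.symm hze
  · rw [hk.1, hk'.1]
  · rw [hk.fix_zero, hk'.fix_zero]
  · rw [hk.smul_one, hk'.smul_one]

theorem Ctx.exists_rep_of_fix (c : Ctx G X i) {k : G} (hki : k • i = i)
    (hkz : k • ((0 : Pts i) : X) = ((0 : Pts i) : X)) : ∃ a : Pts i, Rep i k a := by
  obtain ⟨a, b, -, hab⟩ := c.h1 k hki
  have h0 := hab 0
  rw [hkz, zero_mul', zero_add] at h0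
  have hb : b = 0 := (Subtype.ext h0).symm
  refine ⟨a, hki, fun x => ?_⟩
  rw [hab, hb, add_zero]

theorem Ctx.exists_rep (c : Ctx G X i) {a : Pts i} (ha : a ≠ 0) : ∃ k : G, Rep i k a := by
  obtain ⟨k, hki, hk⟩ := c.h2 a 0 ha
  refine ⟨k, hki, fun x => ?_⟩
  rw [hk, add_zero]

/-- an involution fixing `i` and `0` is the multiplication by `-1` -/
theorem Ctx.rep_neg_one_of_involution (c : Ctx G X i) {k : G} {a : Pts i} (hk : Rep i k a)
    (hk2 : k * k = 1) (hk1 : k ≠ 1) : a = -1 := by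
  have h1 : Rep i (k * k) (a * a) := hk.mul hk
  rw [hk2] at h1
  have h2 : a * a = 1 := h1.eq_right Rep.one
  rcases eq_one_or_neg_one_of_sq c.hadd h2 with h | h
  · exfalso
    apply hk1
    rw [h] at hk
    exact c.eq_left hk Rep.one
  · exact h

end Cfsg.Agent.Lib.H4.S3T.Odd
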