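import Mathlib

/-!
# The sign of a permutation all of whose nontrivial cycles have the same even length
-/

set_option autoImplicit false

namespace Cfsg.Agent.Lib.H4.S3T.Odd

open Equiv Equiv.Perm

variable {X : Type*} [Fintype X] [DecidableEq X]

/-- a permutation of order dividing `d` whose powers `π ^ j`, `0 < j < d`, fix no point moved
by `π` has all its cycles of length `d` -/
theorem cycleType_of_semiregular (π : Perm X) (d : ℕ) (hd0 : 0 < d) (hπd : π ^ d = 1)
    (hsemi : ∀ x, π x ≠ x → ∀ j, 0 < j → j < d → (π ^ j) x ≠ x) :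
    π.cycleType = Multiset.replicate (Multiset.card π.cycleType) d := by
  rw [Multiset.eq_replicate]
  refine ⟨rfl, fun n hn => ?_⟩
  have hdvd : n ∣ d := (dvd_of_mem_cycleType hn).trans (orderOf_dvd_of_pow_eq_one hπd)
  obtain ⟨c, τ, hcτ, hdis, hc, hcn⟩ := mem_cycleType_iff.1 hn
  obtain ⟨x, hx⟩ := hc.nonempty_support
  have hcx : c x ≠ x := mem_support.1 hx
  have hτx : τ x = x := (hdis x).resolve_left hcx
  have hπx : π x ≠ x := by
    rw [hcτ, mul_apply, hτx]; exact hcx
  have hn0 : 0 < n := by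
    rw [← hcn]; exact Finset.card_pos.2 ⟨x, hx⟩
  have hcn1 : c ^ n = 1 := by
    rw [← hcn, ← hc.orderOf]; exact pow_orderOf_eq_one c
  have hτn : ∀ k : ℕ, (τ ^ k) x = x := by
    intro k
    induction k with
    | zero => rfl
    | succ k ih => rw [pow_succ, mul_apply, hτx, ih]
  have hπn : (π ^ n) x = x := by
    rw [hcτ, hdis.commute.mul_pow, hcn1, one_mul, hτn]
  by_contra hne
  have hlt : n < d := lt_of_le_of_ne (Nat.le_of_dvd hd0 hdvd) hne
  exact hsemi x hπx n hn0 hlt hπn

/-- the sign of such a permutation, for even `d` -/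
theorem sign_of_semiregular (π : Perm X) (d : ℕ) (hd : Even d) (hd0 : 0 < d) (hπd : π ^ d = 1)
    (hsemi : ∀ x, π x ≠ x → ∀ j, 0 < j → j < d → (π ^ j) x ≠ x) :
    sign π = (-1) ^ ((Fintype.card X - Fintype.card (Function.fixedPoints π)) / d) := by
  rw [sign_of_cycleType_eq_replicate hd0 (cycleType_of_semiregular π d hd0 hπd hsemi),
    if_neg (Nat.not_odd_iff_even.2 hd)]

end Cfsg.Agent.Lib.H4.S3T.Odd
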