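import Mathlib
import Cfsg.Agent.Lib.H4.S3T.Basic
import Cfsg.Agent.Lib.H4.S3T.Odd.Sign

/-!
# The sign character of a sharply triply transitive group
-/

set_option autoImplicit false

namespace Cfsg.Agent.Lib.H4.S3T.Odd

open MulAction Cfsg.Agent.Lib.H4.S3T

variable {G : Type*} [Group G] {X : Type*} [MulAction G X] [Fintype X] [DecidableEq X]

/-- the sign character -/
def sgn (G : Type*) [Group G] (X : Type*) [MulAction G X] [Fintype X] [DecidableEq X] :
    G →* ℤˣ :=
  Equiv.Perm.sign.comp (MulAction.toPermHom G X)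

theorem sgn_apply (u : G) : sgn G X u = Equiv.Perm.sign (MulAction.toPermHom G X u) := rfl

theorem pow_smul_of_fix {u : G} {a : X} (ha : u • a = a) (j : ℕ) : u ^ j • a = a :=
  mem_stabilizer_iff.1 (Subgroup.pow_mem _ (mem_stabilizer_iff.2 ha) j)

theorem card_fixedPoints_eq_two (h : Sharp3 G X) {u : G} {a b : X} (hab : a ≠ b) (hu1 : u ≠ 1)
    (hua : u • a = a) (hub : u • b = b) :
    Fintype.card (Function.fixedPoints (MulAction.toPermHom G X u)) = 2 := by
  have hset : Function.fixedPoints (MulAction.toPermHom G X u) = ({a, b} : Set X) := by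
    ext x
    constructor
    · intro hx
      have hx' : u • x = x := hx
      by_contra hne
      have hxa : x ≠ a := fun e => hne (by rw [e]; exact Set.mem_insert _ _)
      have hxb : x ≠ b := fun e => hne (by rw [e]; exact Set.mem_insert_of_mem _ rfl)
      exact hu1 (h.s3 u a b x hab hxa.symm hxb.symm hua hub hx')
    · rintro (rfl | rfl)
      · exact hua
      · exact hub
  rw [← Nat.card_eq_fintype_card, Nat.card_coe_set_eq, hset, Set.ncard_pair hab]

/-- the sign of a nonidentity element of even order `d` fixing two points -/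
theorem sgn_of_fix_two (h : Sharp3 G X) {u : G} {a b : X} (hab : a ≠ b) (hu1 : u ≠ 1)
    (hua : u • a = a) (hub : u • b = b) {d : ℕ} (hd : orderOf u = d) (hdeven : Even d)
    (hd0 : 0 < d) : sgn G X u = (-1) ^ ((Fintype.card X - 2) / d) := by
  rw [sgn_apply, sign_of_semiregular _ d hdeven hd0, card_fixedPoints_eq_two h hab hu1 hua hub]
  · rw [← map_pow, ← hd, pow_orderOf_eq_one, map_one]
  · intro x hx j hj0 hjd hjx
    have hx' : u • x ≠ x := hx
    have hjx' : u ^ j • x = x := by
      rw [← map_pow] at hjx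
      exact hjx
    have hxa : x ≠ a := fun e => hx' (by rw [e]; exact hua)
    have hxb : x ≠ b := fun e => hx' (by rw [e]; exact hub)
    have h1 : u ^ j = 1 := h.s3 _ a b x hab hxa.symm hxb.symm (pow_smul_of_fix hua j)
      (pow_smul_of_fix hub j) hjx'
    have h2 : orderOf u ∣ j := orderOf_dvd_of_pow_eq_one h1
    rw [hd] at h2
    have := Nat.le_of_dvd hj0 h2
    omega

/-- an element interchanging two points and fixing a third is an involution, and its sign is
`(-1) ^ ((|X| - 2) / 2)` when `|X|` is even -/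
theorem sgn_of_swap_fix (h : Sharp3 G X) (heven : Even (Fintype.card X)) {g : G} {a b x : X}
    (hab : a ≠ b) (hga : g • a = b) (hgb : g • b = a) (hgx : g • x = x) :
    g * g = 1 ∧ sgn G X g = (-1) ^ ((Fintype.card X - 2) / 2) := by
  have hxa : x ≠ a := by
    rintro rfl
    exact hab (hgx.symm.trans hga)
  have hxb : x ≠ b := by
    rintro rfl
    exact hab (hgb.symm.trans hgx)
  have hgg : g * g = 1 := by
    apply h.s3 _ a b x hab hxa.symm hxb.symm
    · rw [mul_smul, hga, hgb]
    · rw [mul_smul, hgb, hga]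
    · rw [mul_smul, hgx, hgx]
  refine ⟨hgg, ?_⟩
  have hπ2 : (MulAction.toPermHom G X g) ^ 2 = 1 := by
    rw [← map_pow, pow_two, hgg, map_one]
  rw [sgn_apply, Equiv.Perm.sign_of_pow_two_eq_one hπ2]
  congr 2
  -- the number of fixed points is `2`
  have hg1 : g ≠ 1 := by
    rintro rfl
    rw [one_smul] at hga
    exact hab hga
  haveI : Fact (Nat.Prime 2) := ⟨Nat.prime_two⟩
  have hct := Equiv.Perm.cycleType_of_pow_prime_eq_one hπ2
  have hsum : (MulAction.toPermHom G X g).cycleType.sum =
      Multiset.card (MulAction.toPermHom G X g).cycleType * 2 := by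
    conv_lhs => rw [hct]
    simp
  have hcf := Equiv.Perm.card_fixedPoints (MulAction.toPermHom G X g)
  have hsle := Equiv.Perm.sum_cycleType_le (MulAction.toPermHom G X g)
  have hle : Fintype.card (Function.fixedPoints (MulAction.toPermHom G X g)) ≤ 2 := by
    by_contra hcon
    push Not at hcon
    rw [← Nat.card_eq_fintype_card, Nat.card_coe_set_eq] at hcon
    obtain ⟨u, v, w, hu, hv, hw, huv, huw, hvw⟩ :=
      (Set.two_lt_ncard_iff (Set.toFinite _)).1 hcon
    exact hg1 (h.s3 g u v w huv huw hvw hu hv hw)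
  have hpos : 0 < Fintype.card (Function.fixedPoints (MulAction.toPermHom G X g)) :=
    Fintype.card_pos_iff.2 ⟨⟨x, hgx⟩⟩
  obtain ⟨m, hm⟩ := heven
  omega

end Cfsg.Agent.Lib.H4.S3T.Odd
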