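import Mathlib
import Cfsg.Agent.Lib.H4.S3T.Odd.Rep
import Cfsg.Agent.Lib.H4.S3T.Odd.NFQuat
import Cfsg.Agent.Lib.H4.S3T.Odd.Quat
import Cfsg.Agent.Lib.H4.S3T.Odd.Sgn
import Cfsg.Agent.Lib.H22.UniqueInvolution
import Cfsg.Agent.Lib.H22.NilpotentCoprime

/-!
# The two-point stabilizer contains an odd permutation (degree `p ^ f + 1`, `p` and `f` odd)
-/

set_option autoImplicit false

namespace Cfsg.Agent.Lib.H4.S3T.Odd

open MulAction Cfsg.Agent.Lib.H4.NF Cfsg.Agent.Lib.H4.S3T Cfsg.Agent.Lib.H22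

variable {G : Type*} [Group G] {X : Type*} [MulAction G X] [Fintype X] [DecidableEq X]
  {i : X} [Cfsg.NearField (Pts i)]

/-- the stabilizer of `i` and of the zero of the near-field -/
def Hgp (G : Type*) [Group G] {X : Type*} [MulAction G X] (i : X) [Cfsg.NearField (Pts i)] :
    Subgroup G :=
  stabilizer G i ⊓ stabilizer G ((0 : Pts i) : X)

theorem mem_Hgp {k : G} :
    k ∈ Hgp G i ↔ k • i = i ∧ k • ((0 : Pts i) : X) = ((0 : Pts i) : X) := by
  unfold Hgp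
  rw [Subgroup.mem_inf, mem_stabilizer_iff, mem_stabilizer_iff]

theorem Rep.mem_Hgp {k : G} {a : Pts i} (hk : Rep i k a) : k ∈ Hgp G i :=
  Odd.mem_Hgp.2 ⟨hk.1, hk.fix_zero⟩

theorem Ctx.exists_rep_of_mem (c : Ctx G X i) {k : G} (hk : k ∈ Hgp G i) :
    ∃ a : Pts i, Rep i k a :=
  c.exists_rep_of_fix (Odd.mem_Hgp.1 hk).1 (Odd.mem_Hgp.1 hk).2

theorem card_Hgp [Finite G] (c : Ctx G X i) : Nat.card (Hgp G i) = Fintype.card X - 2 := by
  classical
  have hex : ∀ k : Hgp G i, ∃ a : Pts i, Rep i (k : G) a := fun k => c.exists_rep_of_mem k.2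
  choose φ hφ using hex
  have hbij : Function.Bijective (fun k : Hgp G i => (⟨φ k, (hφ k).ne_zero⟩ : {a : Pts i // a ≠ 0})) := by
    constructor
    · intro k k' hkk'
      have h1 : φ k = φ k' := congrArg Subtype.val hkk'
      have h2 := hφ k'
      rw [← h1] at h2
      exact Subtype.ext (c.eq_left (hφ k) h2)
    · rintro ⟨a, ha⟩
      obtain ⟨k, hk⟩ := c.exists_rep ha
      refine ⟨⟨k, hk.mem_Hgp⟩, ?_⟩
      apply Subtype.ext
      exact (hφ ⟨k, hk.mem_Hgp⟩).eq_right hk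
  rw [Nat.card_congr (Equiv.ofBijective _ hbij), Nat.card_eq_fintype_card,
    Fintype.card_subtype_compl, Fintype.card_subtype_eq, card_pts]
  rfl

theorem one_ne_neg_one {p : ℕ} (hp : p.Prime) (hp2 : p ≠ 2) (hchar : ∀ x : Pts i, p • x = 0) :
    (1 : Pts i) ≠ -1 := by
  intro h
  have h2 : 2 • (1 : Pts i) = 0 := by
    rw [two_nsmul]
    nth_rewrite 2 [h]
    exact add_neg_cancel 1
  have h3 : addOrderOf (1 : Pts i) ∣ 2 := addOrderOf_dvd_of_nsmul_eq_zero h2
  have h4 : addOrderOf (1 : Pts i) ∣ p := addOrderOf_dvd_of_nsmul_eq_zero (hchar 1)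
  have h5 : addOrderOf (1 : Pts i) ∣ Nat.gcd 2 p := Nat.dvd_gcd h3 h4
  have h6 : Nat.gcd 2 p = 1 :=
    (Nat.coprime_primes Nat.prime_two hp).2 (fun e => hp2 e.symm)
  rw [h6, Nat.dvd_one, AddMonoid.addOrderOf_eq_one_iff] at h5
  exact Cfsg.NearField.zero_ne_one h5.symm

theorem pow_mod_four_of_three {p f : ℕ} (h : p % 4 = 3) (hf : Odd f) : p ^ f % 4 = 3 := by
  obtain ⟨k, rfl⟩ := hf
  rw [Nat.pow_mod, h, pow_succ, pow_mul, Nat.mul_mod, Nat.pow_mod]
  norm_num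

theorem exists_sq_add_one {p : ℕ} (hp : p.Prime) (h : p % 4 ≠ 3) : ∃ ι : ℕ, p ∣ ι * ι + 1 := by
  haveI : Fact p.Prime := ⟨hp⟩
  obtain ⟨y, hy⟩ := ZMod.exists_sq_eq_neg_one_iff.2 h
  refine ⟨y.val, ?_⟩
  rw [← ZMod.natCast_eq_zero_iff]
  push_cast
  rw [ZMod.natCast_zmod_val, ← hy]
  ring

theorem exists_odd [Finite G] (c : Ctx G X i) {p f : ℕ} (hp : p.Prime) (hp2 : p ≠ 2) (hf : Odd f)
    (hX : Fintype.card X = p ^ f + 1) (hchar : ∀ x : Pts i, p • x = 0) :
    ∃ u : G, u ∈ Hgp G i ∧ sgn G X u = -1 := by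
  classical
  haveI : Fact (Nat.Prime 2) := ⟨Nat.prime_two⟩
  have hqpos : 0 < p ^ f := pow_pos hp.pos f
  have hcardH : Nat.card (Hgp G i) = p ^ f - 1 := by rw [card_Hgp c, hX]; omega
  have hpodd : Odd p := hp.odd_of_ne_two hp2
  have hqodd : Odd (p ^ f) := hpodd.pow
  have hzi : i ≠ ((0 : Pts i) : X) := (0 : Pts i).2.symm
  have h1n := one_ne_neg_one hp hp2 hchar
  have hcardF : Nat.card (Pts i) = p ^ f := by
    rw [Nat.card_eq_fintype_card, card_pts, hX]; omega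
  -- unique involution
  have huniq : ∀ x y : Hgp G i, x ^ 2 = 1 → x ≠ 1 → y ^ 2 = 1 → y ≠ 1 → x = y := by
    intro x y hx2 hx1 hy2 hy1
    obtain ⟨a, ha⟩ := c.exists_rep_of_mem x.2
    obtain ⟨b, hb⟩ := c.exists_rep_of_mem y.2
    have hxx : (x : G) * x = 1 := by
      have := congrArg Subtype.val hx2
      rwa [Subgroup.coe_pow, pow_two] at this
    have hyy : (y : G) * y = 1 := by
      have := congrArg Subtype.val hy2
      rwa [Subgroup.coe_pow, pow_two] at this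
    have ha1 : a = -1 := c.rep_neg_one_of_involution ha hxx (fun h => hx1 (Subtype.ext h))
    have hb1 : b = -1 := c.rep_neg_one_of_involution hb hyy (fun h => hy1 (Subtype.ext h))
    rw [ha1] at ha
    rw [hb1] at hb
    exact Subtype.ext (c.eq_left ha hb)
  have hAM : AtMostOneOrderP 2 (Hgp G i) := atMostOne_two_of_unique_involution huniq
  obtain ⟨P⟩ : Nonempty (Sylow 2 (Hgp G i)) := inferInstance
  have hAMP : AtMostOneOrderP 2 (P : Subgroup (Hgp G i)) := hAM.subgroup _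
  rcases cyclic_or_quaternion_of_atMostOne P.2 hAMP with hcyc | ⟨n, hn, ⟨φ⟩⟩
  · -- the cyclic case
    obtain ⟨g, hg⟩ := hcyc.exists_generator
    have hord : orderOf g = Nat.card (P : Subgroup (Hgp G i)) :=
      orderOf_eq_card_of_forall_mem_zpowers hg
    obtain ⟨u, hu⟩ : ∃ u : G, u = ((g : Hgp G i) : G) := ⟨_, rfl⟩
    obtain ⟨d, hd⟩ : ∃ d : ℕ, d = Nat.card (P : Subgroup (Hgp G i)) := ⟨_, rfl⟩
    have hordu : orderOf u = d := by
      rw [hu, Subgroup.orderOf_coe, Subgroup.orderOf_coe, hord, hd]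
    have huH : u ∈ Hgp G i := by rw [hu]; exact (g : Hgp G i).2
    have hidx : d * (P : Subgroup (Hgp G i)).index = p ^ f - 1 := by
      rw [hd, Subgroup.card_mul_index, hcardH]
    have hnd : ¬ 2 ∣ (P : Subgroup (Hgp G i)).index := P.not_dvd_index
    have hd0 : 0 < d := by rw [hd]; exact Nat.card_pos
    have hdeven : Even d := by
      obtain ⟨e, he⟩ := IsPGroup.iff_card.1 P.2
      rw [← hd] at he
      rcases Nat.eq_zero_or_pos e with h0 | h0
      · exfalso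
        rw [h0, pow_zero] at he
        rw [he, one_mul] at hidx
        apply hnd
        rw [hidx]
        obtain ⟨m, hm⟩ := hqodd
        exact ⟨m, by omega⟩
      · rw [he]
        exact (Nat.even_pow' h0.ne').2 even_two
    have hu1 : u ≠ 1 := by
      intro h1
      rw [h1, orderOf_one] at hordu
      rw [← hordu] at hdeven
      exact absurd hdeven (by decide)
    refine ⟨u, huH, ?_⟩
    rw [sgn_of_fix_two c.sharp hzi hu1 (mem_Hgp.1 huH).1 (mem_Hgp.1 huH).2 hordu hdeven hd0]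
    have hdiv : (Fintype.card X - 2) / d = (P : Subgroup (Hgp G i)).index := by
      apply Nat.div_eq_of_eq_mul_right hd0
      rw [hidx, hX]
      omega
    rw [hdiv]
    exact Odd.neg_one_pow (Nat.not_even_iff_odd.1 (fun he => hnd (even_iff_two_dvd.1 he)))
  · -- the quaternion case
    exfalso
    obtain ⟨I, J, Z, hII, hJJ, hZ1, hZZ, hIJ, hJ4⟩ := exists_quat_pair n hn
    obtain ⟨ψ, hψ⟩ : ∃ ψ : (P : Subgroup (Hgp G i)) →* G,
        ψ = (Hgp G i).subtype.comp (P : Subgroup (Hgp G i)).subtype := ⟨_, rfl⟩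
    have hψinj : Function.Injective ψ := by
      rw [hψ]
      exact (Subgroup.subtype_injective _).comp (Subgroup.subtype_injective _)
    have hψmem : ∀ x, ψ x ∈ Hgp G i := by
      intro x
      rw [hψ]
      exact (x : Hgp G i).2
    obtain ⟨i₀, hi₀⟩ : ∃ i₀ : G, i₀ = ψ (φ.symm I) := ⟨_, rfl⟩
    obtain ⟨j₀, hj₀⟩ : ∃ j₀ : G, j₀ = ψ (φ.symm J) := ⟨_, rfl⟩
    obtain ⟨z₀, hz₀⟩ : ∃ z₀ : G, z₀ = ψ (φ.symm Z) := ⟨_, rfl⟩
    have e1 : i₀ * i₀ = z₀ := by rw [hi₀, hz₀, ← map_mul, ← map_mul, hII]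
    have e2 : z₀ ≠ 1 := by
      rw [hz₀]
      intro h
      have h1 : φ.symm Z = 1 := hψinj (h.trans (map_one ψ).symm)
      apply hZ1
      have := congrArg φ h1
      rwa [φ.apply_symm_apply, map_one] at this
    have e3 : z₀ * z₀ = 1 := by rw [hz₀, ← map_mul, ← map_mul, hZZ, map_one, map_one]
    have e4 : i₀ * j₀ = z₀ * (j₀ * i₀) := by
      rw [hi₀, hj₀, hz₀, ← map_mul, ← map_mul, ← map_mul, ← map_mul, ← map_mul, ← map_mul, hIJ]
    have e5 : orderOf j₀ = 4 := by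
      rw [hj₀, orderOf_injective ψ hψinj, MulEquiv.orderOf_eq φ.symm]
      exact hJ4
    obtain ⟨α, hα⟩ := c.exists_rep_of_mem (show i₀ ∈ Hgp G i by rw [hi₀]; exact hψmem _)
    obtain ⟨β, hβ⟩ := c.exists_rep_of_mem (show j₀ ∈ Hgp G i by rw [hj₀]; exact hψmem _)
    obtain ⟨ζ, hζ⟩ := c.exists_rep_of_mem (show z₀ ∈ Hgp G i by rw [hz₀]; exact hψmem _)
    have hζ1 : ζ = -1 := c.rep_neg_one_of_involution hζ e3 e2
    rw [hζ1] at hζ
    have hαα : α * α = -1 := by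
      have := hα.mul hα
      rw [e1] at this
      exact this.eq_right hζ
    have hβα : β * α = -(α * β) := by
      have h1 := hα.mul hβ
      have h2 := hζ.mul (hβ.mul hα)
      rw [← e4] at h2
      rw [h1.eq_right h2, mul_neg_one' c.hadd h1n]
    -- `p ≡ 1 (mod 4)`
    have h4 : 4 ∣ p ^ f - 1 := by
      rw [← hcardH, ← e5]
      have hj : j₀ ∈ Hgp G i := by rw [hj₀]; exact hψmem _
      have := orderOf_dvd_natCard (⟨j₀, hj⟩ : Hgp G i)
      rwa [← Subgroup.orderOf_coe] at this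
    have hp4 : p % 4 ≠ 3 := by
      intro h3
      have := pow_mod_four_of_three h3 hf
      omega
    obtain ⟨ι, hι⟩ := exists_sq_add_one hp hp4
    have hsq := isSquare_card_of_quaternion c.hadd h1n hchar (hcardF ▸ hqodd) hι hαα
      hβ.ne_zero hβα
    rw [hcardF] at hsq
    exact not_isSquare_prime_pow_odd hp hf hsq

end Cfsg.Agent.Lib.H4.S3T.Odd
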