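import Mathlib
import Cfsg.Agent.Lib.H4.S3T.Odd.Syl

/-!
# The even part of the two-point stabilizer is inverted by the involution `s`
-/

set_option autoImplicit false

namespace Cfsg.Agent.Lib.H4.S3T.Odd

open MulAction Cfsg.Agent.Lib.H4.NF Cfsg.Agent.Lib.H4.S3T

variable {G : Type*} [Group G] {X : Type*} [MulAction G X] [Fintype X] [DecidableEq X]
  {i : X} [Cfsg.NearField (Pts i)]

theorem invert_even [Finite G] (c : Ctx G X i) (heven : Even (Fintype.card X))
    (hcard : 3 ≤ Fintype.card X) {s : G}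
    (hsz : s • ((0 : Pts i) : X) = i) (hsi : s • i = ((0 : Pts i) : X))
    (hse : s • ((1 : Pts i) : X) = ((1 : Pts i) : X))
    {u₀ : G} (hu₀ : u₀ ∈ Hgp G i) (hu₀s : sgn G X u₀ = -1) :
    (∀ k ∈ Hgp G i, sgn G X k = 1 → s * k * s⁻¹ = k⁻¹) ∧
      2 * {k : G | k ∈ Hgp G i ∧ sgn G X k = 1}.ncard = Fintype.card X - 2 := by
  classical
  haveI : Fintype G := Fintype.ofFinite G
  have hzi : ((0 : Pts i) : X) ≠ i := (0 : Pts i).2
  obtain ⟨m, hm⟩ : ∃ m : ℕ, m = (Fintype.card X - 2) / 2 := ⟨_, rfl⟩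
  obtain ⟨hss, hsgns⟩ := sgn_of_swap_fix c.sharp heven hzi hsz hsi hse
  rw [← hm] at hsgns
  obtain ⟨Hs, hHs⟩ : ∃ Hs : Finset G, Hs = Finset.univ.filter (fun k : G => k ∈ Hgp G i) :=
    ⟨_, rfl⟩
  obtain ⟨H₀, hH₀⟩ : ∃ H₀ : Finset G, H₀ = Hs.filter (fun k => sgn G X k = 1) := ⟨_, rfl⟩
  obtain ⟨Ts, hTs⟩ : ∃ Ts : Finset G, Ts = Hs.filter (fun k => ∃ x : X, (s * k) • x = x) :=
    ⟨_, rfl⟩
  have memHs : ∀ k, k ∈ Hs ↔ k ∈ Hgp G i := by
    intro k; rw [hHs, Finset.mem_filter]; simp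
  have memH₀ : ∀ k, k ∈ H₀ ↔ k ∈ Hgp G i ∧ sgn G X k = 1 := by
    intro k; rw [hH₀, Finset.mem_filter, memHs]
  have memTs : ∀ k, k ∈ Ts ↔ k ∈ Hgp G i ∧ ∃ x : X, (s * k) • x = x := by
    intro k; rw [hTs, Finset.mem_filter, memHs]
  -- elements of `Ts`
  have hswap : ∀ k ∈ Hgp G i, (s * k) • ((0 : Pts i) : X) = i ∧ (s * k) • i = ((0 : Pts i) : X) := by
    intro k hk
    rw [mul_smul, mul_smul, (mem_Hgp.1 hk).1, (mem_Hgp.1 hk).2]
    exact ⟨hsz, hsi⟩
  have hT : ∀ k ∈ Ts, (s * k) * (s * k) = 1 ∧ sgn G X k = 1 := by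
    intro k hk
    obtain ⟨hkH, x, hx⟩ := (memTs k).1 hk
    obtain ⟨h1, h2⟩ := sgn_of_swap_fix c.sharp heven hzi (hswap k hkH).1 (hswap k hkH).2 hx
    refine ⟨h1, ?_⟩
    rw [← hm, map_mul, hsgns] at h2
    have h3 : ((-1 : ℤˣ) ^ m) * ((-1) ^ m * sgn G X k) = (-1 : ℤˣ) ^ m * (-1) ^ m := by rw [h2]
    rw [← mul_assoc, ← mul_pow, neg_one_mul, neg_neg, one_pow, one_mul] at h3
    exact h3
  have hTsub : Ts ⊆ H₀ := by
    intro k hk
    rw [memH₀]
    exact ⟨((memTs k).1 hk).1, (hT k hk).2⟩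
  -- counting
  have hcardHs : Hs.card = Fintype.card X - 2 := by
    rw [← card_Hgp c, Nat.card_eq_fintype_card, hHs, ← Fintype.card_subtype]
  have hcount1 : 2 * H₀.card ≤ Hs.card := by
    have hsub : H₀ ⊆ Hs := by rw [hH₀]; exact Finset.filter_subset _ _
    have hle : H₀.card ≤ (Hs \ H₀).card := by
      apply Finset.card_le_card_of_injOn (fun k => u₀ * k)
      · intro k hk
        have hk' := (memH₀ k).1 (Finset.mem_coe.1 hk)
        rw [Finset.mem_coe, Finset.mem_sdiff, memHs, memH₀]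
        refine ⟨(Hgp G i).mul_mem hu₀ hk'.1, fun h => ?_⟩
        have := h.2
        rw [map_mul, hu₀s, hk'.2, mul_one] at this
        exact absurd this (by decide)
      · intro k _ k' _ h
        exact mul_left_cancel h
    rw [Finset.card_sdiff_of_subset hsub] at hle
    have := Finset.card_le_card hsub
    omega
  have hcount2 : Fintype.card X - 2 ≤ 2 * Ts.card := by
    obtain ⟨Y, hY⟩ : ∃ Y : Finset X, Y = Finset.univ.filter
        (fun x : X => x ≠ i ∧ x ≠ ((0 : Pts i) : X)) := ⟨_, rfl⟩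
    have hYcard : Y.card = Fintype.card X - 2 := by
      have h1 : Y = (Finset.univ.erase i).erase ((0 : Pts i) : X) := by
        rw [hY]
        ext x
        simp only [Finset.mem_filter, Finset.mem_univ, true_and, Finset.mem_erase, ne_eq]
        tauto
      rw [h1, Finset.card_erase_of_mem, Finset.card_erase_of_mem (Finset.mem_univ _),
        Finset.card_univ]
      · omega
      · rw [Finset.mem_erase]
        exact ⟨hzi, Finset.mem_univ _⟩
    have hex : ∀ x : X, ∃ k : G, x ∈ Y → k ∈ Hgp G i ∧ (s * k) • x = x := by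
      intro x
      by_cases hx : x ∈ Y
      · rw [hY, Finset.mem_filter] at hx
        obtain ⟨-, hxi, hxz⟩ := hx
        have h1 : s⁻¹ • x ≠ i := by
          intro h
          rw [inv_smul_eq_iff, hsi] at h
          exact hxz h
        have h2 : s⁻¹ • x ≠ ((0 : Pts i) : X) := by
          intro h
          rw [inv_smul_eq_iff, hsz] at h
          exact hxi h
        obtain ⟨k, hki, hkz, hkx⟩ := c.sharp.t3 i ((0 : Pts i) : X) x i ((0 : Pts i) : X)
          (s⁻¹ • x) hzi.symm hxi.symm hxz.symm hzi.symm h1.symm h2.symm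
        refine ⟨k, fun _ => ⟨mem_Hgp.2 ⟨hki, hkz⟩, ?_⟩⟩
        rw [mul_smul, hkx, smul_inv_smul]
      · exact ⟨1, fun h => absurd h hx⟩
    choose φ hφ using hex
    have himg : Y.image φ ⊆ Ts := by
      intro k hk
      obtain ⟨x, hx, rfl⟩ := Finset.mem_image.1 hk
      rw [memTs]
      exact ⟨(hφ x hx).1, x, (hφ x hx).2⟩
    have hfib : ∀ k ∈ Y.image φ, (Y.filter (fun x => φ x = k)).card ≤ 2 := by
      intro k hk
      by_contra hcon
      push Not at hcon
      obtain ⟨a, b, d, ha, hb, hd, hab, had, hbd⟩ := Finset.two_lt_card_iff.1 hcon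
      rw [Finset.mem_filter] at ha hb hd
      have hfa := (hφ a ha.1).2
      have hfb := (hφ b hb.1).2
      have hfd := (hφ d hd.1).2
      rw [ha.2] at hfa
      rw [hb.2] at hfb
      rw [hd.2] at hfd
      have h1 : s * k = 1 := c.sharp.s3 _ a b d hab had hbd hfa hfb hfd
      have hkH : k ∈ Hgp G i := ((memTs k).1 (himg hk)).1
      have := (hswap k hkH).1
      rw [h1, one_smul] at this
      exact hzi this
    have := Finset.card_le_mul_card_image Y 2 hfib
    have h2 := Finset.card_le_card himg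
    rw [hYcard] at this
    calc Fintype.card X - 2 ≤ 2 * (Y.image φ).card := this
      _ ≤ 2 * Ts.card := Nat.mul_le_mul_left 2 h2
  have hle : H₀.card ≤ Ts.card := by omega
  have hTeq : Ts = H₀ := Finset.eq_of_subset_of_card_le hTsub hle
  refine ⟨fun k hk hk1 => ?_, ?_⟩
  · have hkT : k ∈ Ts := by rw [hTeq, memH₀]; exact ⟨hk, hk1⟩
    have h1 := (hT k hkT).1
    have hsinv : s⁻¹ = s := inv_eq_of_mul_eq_one_left hss
    rw [hsinv]
    have h3 : k * (s * k * s) = 1 := by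
      have : k * (s * k * s) = k * ((s * k) * (s * k)) * k⁻¹ := by group
      rw [this, h1, mul_one, mul_inv_cancel]
    exact (inv_eq_of_mul_eq_one_right h3).symm
  · have hset : {k : G | k ∈ Hgp G i ∧ sgn G X k = 1} = (H₀ : Set G) := by
      ext k
      rw [Set.mem_setOf_eq, Finset.mem_coe, memH₀]
    rw [hset, Set.ncard_coe_finset]
    have h3 : Ts.card = H₀.card := by rw [hTeq]
    omega

end Cfsg.Agent.Lib.H4.S3T.Odd
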