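import Mathlib
import Cfsg.Agent.Lib.H4.S3T.Odd.NFQuat

/-!
# A finite near-field of order `p ^ f`, `p` and `f` odd, whose multiplicative group has a
commutative subgroup of index two is commutative
-/

set_option autoImplicit false

namespace Cfsg.Agent.Lib.H4.S3T.Odd

open Cfsg.Agent.Lib.H4.NF

variable {F : Type*} [Cfsg.NearField F]

/-- an additive subgroup containing more than half of the elements is everything -/
theorem addSubgroup_eq_top_of_big [Finite F] {A : Set F}
    (hA : 2 * A.ncard + 1 = Nat.card F) (W : AddSubgroup F) (S : Set F) (hSW : S ⊆ W)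
    (h0S : (0 : F) ∉ S) (hS : A.ncard ≤ S.ncard) : W = ⊤ := by
  have h1 : S.ncard + 1 ≤ Nat.card W := by
    have e1 : (insert 0 S).ncard = S.ncard + 1 := Set.ncard_insert_of_notMem h0S (Set.toFinite S)
    have e2 : (insert 0 S).ncard ≤ (W : Set F).ncard := by
      apply Set.ncard_le_ncard _ (Set.toFinite _)
      intro x hx
      rcases hx with rfl | hx
      · exact W.zero_mem
      · exact hSW hx
    rw [← e1]
    calc (insert 0 S).ncard ≤ (W : Set F).ncard := e2
      _ = Nat.card W := (Nat.card_coe_set_eq _).symm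
  obtain ⟨m, hm⟩ := AddSubgroup.card_addSubgroup_dvd_card W
  have hpos : 0 < Nat.card F := Nat.card_pos
  have hm1 : m = 1 := by
    rcases Nat.lt_or_ge m 2 with h | h
    · interval_cases m
      · rw [mul_zero] at hm; omega
      · rfl
    · exfalso
      have : Nat.card W * 2 ≤ Nat.card W * m := Nat.mul_le_mul_left _ h
      omega
  rw [hm1, mul_one] at hm
  exact (AddSubgroup.card_eq_iff_eq_top W).1 hm.symm

section commutant

variable [hadd : Fact (∀ x y : F, x + y = y + x)]

/-- the additive commutative group structure, as a local instance -/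
@[reducible] def instACG : AddCommGroup F := addCommGroupOfNF hadd.out

attribute [local instance] instACG

variable (A : Set F)

/-- the ring of additive maps commuting with the right multiplications by elements of `A` -/
def commutant : Subring (AddMonoid.End F) where
  carrier := {ε | ∀ a ∈ A, ∀ x : F, ε (x * a) = ε x * a}
  mul_mem' := by
    intro ε ε' hε hε' a ha x
    show ε (ε' (x * a)) = ε (ε' x) * a
    rw [hε' a ha, hε a ha]
  one_mem' := by
    intro a _ x
    rfl
  add_mem' := by
    intro ε ε' hε hε' a ha x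
    show ε (x * a) + ε' (x * a) = (ε x + ε' x) * a
    rw [hε a ha, hε' a ha, rdistrib]
  zero_mem' := by
    intro a _ x
    show (0 : F) = 0 * a
    rw [zero_mul']
  neg_mem' := by
    intro ε hε a ha x
    show -(ε (x * a)) = (-(ε x)) * a
    rw [hε a ha, neg_mul']

theorem mem_commutant {ε : AddMonoid.End F} :
    ε ∈ commutant A ↔ ∀ a ∈ A, ∀ x : F, ε (x * a) = ε x * a := Iff.rfl

/-- evaluation at `1` -/
def evOne : AddMonoid.End F →+ F where
  toFun ε := ε 1
  map_zero' := rfl
  map_add' _ _ := rfl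

@[simp] theorem evOne_apply (ε : AddMonoid.End F) : evOne ε = ε 1 := rfl

/-- right multiplication as an additive endomorphism -/
def RmE (a : F) : AddMonoid.End F := Rm a

@[simp] theorem RmE_apply (a x : F) : RmE a x = x * a := rfl

theorem Rm_mem_commutant {c : F} (hc : ∀ a ∈ A, a * c = c * a) :
    RmE c ∈ commutant A := by
  intro a ha x
  show (x * a) * c = (x * c) * a
  rw [mul_assoc, hc a ha, ← mul_assoc]

theorem Rm_mul_Rm (a b : F) : RmE a * RmE b = RmE (b * a) := by
  apply AddMonoidHom.ext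
  intro x
  show (x * b) * a = x * (b * a)
  rw [mul_assoc]

theorem Rm_one : RmE (1 : F) = 1 := by
  apply AddMonoidHom.ext
  intro x
  show x * 1 = x
  rw [mul_one]

variable {A}

theorem eq_zero_of_evOne [Finite F] (hA : 2 * A.ncard + 1 = Nat.card F) (h0 : (0 : F) ∉ A)
    {ε : AddMonoid.End F} (hε : ε ∈ commutant A) (h1 : ε 1 = 0) : ε = 0 := by
  have hker : AddMonoidHom.ker (ε : F →+ F) = ⊤ := by
    apply addSubgroup_eq_top_of_big hA _ A _ h0 le_rfl
    intro a ha
    show ε a = 0
    have := hε a ha 1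
    rw [one_mul, h1, zero_mul'] at this
    exact this
  apply AddMonoidHom.ext
  intro x
  have : x ∈ AddMonoidHom.ker (ε : F →+ F) := by rw [hker]; trivial
  exact this

theorem injective_of_mem_commutant [Finite F] (hA : 2 * A.ncard + 1 = Nat.card F)
    (h0 : (0 : F) ∉ A) {ε : AddMonoid.End F} (hε : ε ∈ commutant A) (hne : ε ≠ 0) {x : F}
    (hx : ε x = 0) : x = 0 := by
  by_contra hx0
  apply hne
  have hker : AddMonoidHom.ker (ε : F →+ F) = ⊤ := by
    apply addSubgroup_eq_top_of_big hA _ ((fun a => x * a) '' A)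
    · rintro _ ⟨a, ha, rfl⟩
      show ε (x * a) = 0
      rw [hε a ha, hx, zero_mul']
    · rintro ⟨a, ha, hxa⟩
      have ha0 : a ≠ 0 := fun h => h0 (h ▸ ha)
      exact mul_ne_zero' ha0 hx0 hxa
    · rw [Set.ncard_image_of_injective]
      intro a b hab
      exact mul_left_cancel' hx0 hab
  apply AddMonoidHom.ext
  intro y
  have : y ∈ AddMonoidHom.ker (ε : F →+ F) := by rw [hker]; trivial
  exact this

/-- the commutant is commutative and evaluation at `1` is a bijection onto `F` -/
theorem commutant_facts [Finite F] (hA : 2 * A.ncard + 1 = Nat.card F) (h0 : (0 : F) ∉ A)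
    (hcomm : ∀ a ∈ A, ∀ b ∈ A, a * b = b * a) :
    (∀ ε ∈ commutant A, ∀ ε' ∈ commutant A, ε * ε' = ε' * ε) ∧
      (∀ y : F, ∃ ε ∈ commutant A, ε 1 = y) := by
  obtain ⟨E₀, hE₀⟩ : ∃ E₀ : Subring (AddMonoid.End F), E₀ = Subring.closure (RmE '' A) :=
    ⟨_, rfl⟩
  have hgen : ∀ a ∈ A, RmE a ∈ commutant A := fun a ha =>
    Rm_mem_commutant A (fun b hb => hcomm b hb a ha)
  have hle : E₀ ≤ commutant A := by
    rw [hE₀, Subring.closure_le]
    rintro _ ⟨a, ha, rfl⟩
    exact hgen a ha
  have hcent : E₀ ≤ Subring.centralizer (commutant A : Set (AddMonoid.End F)) := by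
    rw [hE₀, Subring.closure_le]
    rintro _ ⟨a, ha, rfl⟩
    rw [SetLike.mem_coe, Subring.mem_centralizer_iff]
    intro ε hε
    apply AddMonoidHom.ext
    intro x
    show ε (x * a) = ε x * a
    exact hε a ha x
  have hsurj : ∀ y : F, ∃ ε ∈ E₀, ε 1 = y := by
    have htop : AddSubgroup.map (evOne : AddMonoid.End F →+ F) E₀.toAddSubgroup = ⊤ := by
      apply addSubgroup_eq_top_of_big hA _ A _ h0 le_rfl
      intro a ha
      refine ⟨RmE a, ?_, ?_⟩
      · show RmE a ∈ E₀
        rw [hE₀]
        exact Subring.subset_closure ⟨a, ha, rfl⟩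
      · show (1 : F) * a = a
        rw [one_mul]
    intro y
    have hy : y ∈ AddSubgroup.map (evOne : AddMonoid.End F →+ F) E₀.toAddSubgroup := by
      rw [htop]; trivial
    obtain ⟨ε, hε, rfl⟩ := hy
    exact ⟨ε, hε, rfl⟩
  have hEle : commutant A ≤ E₀ := by
    intro ε hε
    obtain ⟨ε₀, hε₀, h1⟩ := hsurj (ε 1)
    have hsub : ε - ε₀ ∈ commutant A := Subring.sub_mem _ hε (hle hε₀)
    have hz : (ε - ε₀) 1 = 0 := by
      show ε 1 - ε₀ 1 = 0
      rw [h1, sub_self]
    have := eq_zero_of_evOne hA h0 hsub hz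
    rw [sub_eq_zero] at this
    rw [this]
    exact hε₀
  refine ⟨fun ε hε ε' hε' => ?_, fun y => ?_⟩
  · have := hcent (hEle hε)
    rw [Subring.mem_centralizer_iff] at this
    exact (this ε' hε').symm
  · obtain ⟨ε, hε, h1⟩ := hsurj y
    exact ⟨ε, hle hε, h1⟩

theorem conj_mem_commutant (hnorm : ∀ a ∈ A, ∀ c d : F, c * d = 1 → d * c = 1 → c * a * d ∈ A)
    {c d : F} (hcd : c * d = 1) (hdc : d * c = 1) {ε : AddMonoid.End F} (hε : ε ∈ commutant A) :
    RmE c * ε * RmE d ∈ commutant A := by
  intro a ha x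
  show ε ((x * a) * d) * c = (ε (x * d) * c) * a
  have h1 : (x * a) * d = (x * d) * (c * a * d) := by
    calc (x * a) * d = x * ((d * c) * a * d) := by rw [hdc, one_mul, mul_assoc]
      _ = (x * d) * (c * a * d) := by simp only [mul_assoc]
  rw [h1, hε _ (hnorm a ha c d hcd hdc)]
  calc ε (x * d) * (c * a * d) * c = ε (x * d) * c * a * (d * c) := by simp only [mul_assoc]
    _ = ε (x * d) * c * a := by rw [hdc, mul_one]

/-- conjugation by a right multiplication is trivial on the commutant when `f` is odd -/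
theorem conj_eq_self [Finite F] {p f : ℕ} (hp : p.Prime) (hp2 : p ≠ 2) (hf : Odd f)
    (hcard : Nat.card F = p ^ f) (hA : 2 * A.ncard + 1 = Nat.card F) (h0 : (0 : F) ∉ A)
    (hcomm : ∀ a ∈ A, ∀ b ∈ A, a * b = b * a)
    (hnorm : ∀ a ∈ A, ∀ c d : F, c * d = 1 → d * c = 1 → c * a * d ∈ A)
    (hsq : ∀ c : F, c ≠ 0 → c * c ∈ A)
    {c d : F} (hcd : c * d = 1) (hdc : d * c = 1) {ε : AddMonoid.End F} (hε : ε ∈ commutant A) :
    RmE c * ε * RmE d = ε := by
  classical
  obtain ⟨hEcomm, hEsurj⟩ := commutant_facts hA h0 hcomm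
  have hc0 : c ≠ 0 := by
    rintro rfl
    rw [zero_mul'] at hcd
    exact Cfsg.NearField.zero_ne_one hcd
  have hd0 : d ≠ 0 := inv_ne_zero' hcd
  have hRdc : RmE d * RmE c = 1 := by rw [Rm_mul_Rm, hcd, Rm_one]
  -- the conjugation as an additive endomorphism of the commutant
  let τ : commutant A →+ commutant A :=
    { toFun := fun η => ⟨RmE c * η.1 * RmE d, conj_mem_commutant hnorm hcd hdc η.2⟩
      map_zero' := by
        apply Subtype.ext
        show RmE c * (0 : AddMonoid.End F) * RmE d = 0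
        rw [mul_zero, zero_mul]
      map_add' := by
        intro η η'
        apply Subtype.ext
        show RmE c * (η.1 + η'.1) * RmE d = RmE c * η.1 * RmE d + RmE c * η'.1 * RmE d
        rw [mul_add, add_mul] }
  have hτval : ∀ η : commutant A, (τ η).1 = RmE c * η.1 * RmE d := fun η => rfl
  have hcc : RmE (c * c) ∈ commutant A :=
    Rm_mem_commutant A (fun a ha => hcomm a ha _ (hsq c hc0))
  have hττ : ∀ η : commutant A, τ (τ η) = η := by
    intro η
    apply Subtype.ext
    rw [hτval, hτval]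
    calc RmE c * (RmE c * η.1 * RmE d) * RmE d
        = (RmE c * RmE c) * η.1 * (RmE d * RmE d) := by simp only [mul_assoc]
      _ = RmE (c * c) * η.1 * RmE (d * d) := by rw [Rm_mul_Rm, Rm_mul_Rm]
      _ = η.1 * RmE (c * c) * RmE (d * d) := by rw [hEcomm _ hcc _ η.2]
      _ = η.1 * RmE ((d * d) * (c * c)) := by rw [mul_assoc, Rm_mul_Rm]
      _ = η.1 := by
        have : (d * d) * (c * c) = 1 := by
          calc (d * d) * (c * c) = d * (d * c) * c := by simp only [mul_assoc]
            _ = 1 := by rw [hdc, mul_one, hdc]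
        rw [this, Rm_one, mul_one]
  have hτmul : ∀ η η' : commutant A, τ (η * η') = τ η * τ η' := by
    intro η η'
    apply Subtype.ext
    show RmE c * (η.1 * η'.1) * RmE d = (RmE c * η.1 * RmE d) * (RmE c * η'.1 * RmE d)
    calc RmE c * (η.1 * η'.1) * RmE d = RmE c * η.1 * 1 * η'.1 * RmE d := by
          simp only [mul_assoc, one_mul]
      _ = RmE c * η.1 * (RmE d * RmE c) * η'.1 * RmE d := by rw [hRdc]
      _ = _ := by simp only [mul_assoc]
  by_contra hne
  obtain ⟨η₁, hη₁⟩ : ∃ η₁ : commutant A, τ η₁ ≠ η₁ :=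
    ⟨⟨ε, hε⟩, fun h => hne (congrArg Subtype.val h)⟩
  obtain ⟨y, hy⟩ : ∃ y : commutant A, y = η₁ - τ η₁ := ⟨_, rfl⟩
  have hy0 : y ≠ 0 := by
    rw [hy]
    intro h
    exact hη₁ (sub_eq_zero.1 h).symm
  have hτy : τ y = -y := by
    rw [hy, map_sub, hττ, neg_sub]
  -- cardinality of the commutant
  have hcardE : Nat.card (commutant A) = Nat.card F := by
    apply Nat.card_congr
    refine Equiv.ofBijective (fun η : commutant A => η.1 1) ⟨?_, ?_⟩
    · intro η η' h
      have hsub : η.1 - η'.1 ∈ commutant A := Subring.sub_mem _ η.2 η'.2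
      have h' : η.1 1 = η'.1 1 := h
      have hz : (η.1 - η'.1) 1 = 0 := by
        show η.1 1 - η'.1 1 = 0
        rw [h', sub_self]
      have := eq_zero_of_evOne hA h0 hsub hz
      exact Subtype.ext (sub_eq_zero.1 this)
    · intro x
      obtain ⟨η, hη, h1⟩ := hEsurj x
      exact ⟨⟨η, hη⟩, h1⟩
  have hodd : Odd (Nat.card (commutant A)) := by
    rw [hcardE, hcard]
    exact (hp.odd_of_ne_two hp2).pow
  haveI : Finite (commutant A) := by
    apply Nat.finite_of_card_ne_zero
    rw [hcardE]
    exact Nat.card_pos.ne'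
  have hsqr : IsSquare (Nat.card (commutant A)) := by
    apply isSquare_card_of_anticommuting hodd τ (AddMonoidHom.mulLeft y) hττ
    · intro w w' hww'
      have h1 : y * (w - w') = 0 := by
        rw [mul_sub]
        exact sub_eq_zero.2 hww'
      have h2 : ∀ x : F, (w - w').1 x = 0 := by
        intro x
        have h3 : (y * (w - w')).1 x = 0 := by rw [h1]; rfl
        exact injective_of_mem_commutant hA h0 y.2
          (fun h => hy0 (Subtype.ext h)) h3
      apply sub_eq_zero.1
      apply Subtype.ext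
      apply AddMonoidHom.ext
      intro x
      exact h2 x
    · intro w
      show y * τ w = -τ (y * w)
      rw [hτmul, hτy, neg_mul, neg_neg]
  rw [hcardE, hcard] at hsqr
  exact not_isSquare_prime_pow_odd hp hf hsqr

end commutant

/-- **commutativity**: a finite near-field of order `p ^ f`, `p` and `f` odd, whose nonzero
elements contain a commutative normal subset `A` of half the size containing all squares,
is commutative -/
theorem mul_comm_of_index_two [Finite F] (hadd : ∀ x y : F, x + y = y + x) {A : Set F}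
    {p f : ℕ} (hp : p.Prime) (hp2 : p ≠ 2) (hf : Odd f)
    (hcard : Nat.card F = p ^ f) (hA : 2 * A.ncard + 1 = Nat.card F) (h0 : (0 : F) ∉ A)
    (hcomm : ∀ a ∈ A, ∀ b ∈ A, a * b = b * a)
    (hnorm : ∀ a ∈ A, ∀ c d : F, c * d = 1 → d * c = 1 → c * a * d ∈ A)
    (hsq : ∀ c : F, c ≠ 0 → c * c ∈ A) (x y : F) : x * y = y * x := by
  haveI : Fact (∀ x y : F, x + y = y + x) := ⟨hadd⟩
  letI : AddCommGroup F := instACG
  obtain ⟨hEcomm, -⟩ := commutant_facts hA h0 hcomm
  -- every nonzero element commutes with `A`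
  have hcomA : ∀ c : F, c ≠ 0 → ∀ a ∈ A, a * c = c * a := by
    intro c hc a ha
    obtain ⟨d, hcd, hdc⟩ := exists_inv' hc
    have hRa : RmE a ∈ commutant A := Rm_mem_commutant A (fun b hb => hcomm b hb a ha)
    have h1 := conj_eq_self hp hp2 hf hcard hA h0 hcomm hnorm hsq hcd hdc hRa
    have h2 : (RmE c * RmE a * RmE d) 1 = RmE a 1 := by rw [h1]
    have h3 : ((1 * d) * a) * c = 1 * a := h2
    rw [one_mul, one_mul] at h3
    calc a * c = (c * d) * a * c := by rw [hcd, one_mul]
      _ = c * ((d * a) * c) := by simp only [mul_assoc]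
      _ = c * a := by rw [h3]
  by_cases hx : x = 0
  · rw [hx, zero_mul', mul_zero']
  by_cases hy : y = 0
  · rw [hy, zero_mul', mul_zero']
  have hRx : RmE x ∈ commutant A := Rm_mem_commutant A (hcomA x hx)
  have hRy : RmE y ∈ commutant A := Rm_mem_commutant A (hcomA y hy)
  have h1 := hEcomm _ hRx _ hRy
  have h2 : (RmE x * RmE y) 1 = (RmE y * RmE x) 1 := by rw [h1]
  have h3 : (1 * y) * x = (1 * x) * y := h2
  rw [one_mul, one_mul] at h3
  exact h3.symm

end Cfsg.Agent.Lib.H4.S3T.Odd
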