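import Mathlib
import Cfsg.Agent.Lib.H4.S3T.Odd.Invert
import Cfsg.Agent.Lib.H4.S3T.Odd.NFComm

/-!
# The near-field is commutative (degree `p ^ f + 1`, `p` and `f` odd)
-/

set_option autoImplicit false

namespace Cfsg.Agent.Lib.H4.S3T.Odd

open MulAction Cfsg.Agent.Lib.H4.NF Cfsg.Agent.Lib.H4.S3T

variable {G : Type*} [Group G] {X : Type*} [MulAction G X] [Fintype X] [DecidableEq X]
  {i : X} [Cfsg.NearField (Pts i)]

/-- the near-field elements attached to the even elements of the two-point stabilizer -/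
def evenSet (G : Type*) [Group G] {X : Type*} [MulAction G X] [Fintype X] [DecidableEq X]
    (i : X) [Cfsg.NearField (Pts i)] : Set (Pts i) :=
  {a | ∃ k : G, k ∈ Hgp G i ∧ sgn G X k = 1 ∧ Rep i k a}

theorem ncard_evenSet [Finite G] (c : Ctx G X i) :
    (evenSet G i).ncard = {k : G | k ∈ Hgp G i ∧ sgn G X k = 1}.ncard := by
  classical
  obtain ⟨ρ₀, hρ₀⟩ : ∃ ρ₀ : G → Pts i, ∀ k, k ∈ Hgp G i → Rep i k (ρ₀ k) := by
    have : ∀ k : G, ∃ a : Pts i, k ∈ Hgp G i → Rep i k a := by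
      intro k
      by_cases hk : k ∈ Hgp G i
      · obtain ⟨a, ha⟩ := c.exists_rep_of_mem hk
        exact ⟨a, fun _ => ha⟩
      · exact ⟨0, fun h => absurd h hk⟩
    choose ρ₀ hρ₀ using this
    exact ⟨ρ₀, hρ₀⟩
  have himg : evenSet G i = ρ₀ '' {k : G | k ∈ Hgp G i ∧ sgn G X k = 1} := by
    ext a
    constructor
    · rintro ⟨k, hk, hk1, hka⟩
      exact ⟨k, ⟨hk, hk1⟩, (hρ₀ k hk).eq_right hka⟩
    · rintro ⟨k, ⟨hk, hk1⟩, rfl⟩
      exact ⟨k, hk, hk1, hρ₀ k hk⟩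
  rw [himg]
  apply Set.ncard_image_of_injOn
  intro k hk k' hk' h
  have h1 := hρ₀ k hk.1
  have h2 := hρ₀ k' hk'.1
  rw [h] at h1
  exact c.eq_left h1 h2

theorem nf_mul_comm [Finite G] (c : Ctx G X i) {p f : ℕ} (hp : p.Prime) (hp2 : p ≠ 2)
    (hf : Odd f) (hX : Fintype.card X = p ^ f + 1) (hchar : ∀ x : Pts i, p • x = 0) {s : G}
    (hsz : s • ((0 : Pts i) : X) = i) (hsi : s • i = ((0 : Pts i) : X))
    (hse : s • ((1 : Pts i) : X) = ((1 : Pts i) : X)) :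
    (∀ x y : Pts i, x * y = y * x) ∧
      (∀ k ∈ Hgp G i, sgn G X k = 1 → s * k * s⁻¹ = k⁻¹) ∧
      2 * (evenSet G i).ncard + 1 = Nat.card (Pts i) ∧
      ∃ u₀ ∈ Hgp G i, sgn G X u₀ = -1 := by
  classical
  obtain ⟨u₀, hu₀, hu₀s⟩ := exists_odd c hp hp2 hf hX hchar
  have hqpos : 0 < p ^ f := pow_pos hp.pos f
  have hqodd : Odd (p ^ f) := (hp.odd_of_ne_two hp2).pow
  have heven : Even (Fintype.card X) := by rw [hX]; exact hqodd.add_one
  have hq3 : 3 ≤ p ^ f := by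
    have h3 : 3 ≤ p := by
      have := hp.two_le
      omega
    obtain ⟨j, hj⟩ := hf
    calc 3 ≤ p := h3
      _ = p ^ 1 := (pow_one p).symm
      _ ≤ p ^ f := Nat.pow_le_pow_right hp.pos (by omega)
  have hcard3 : 3 ≤ Fintype.card X := by omega
  obtain ⟨hinv, hcount⟩ := invert_even c heven hcard3 hsz hsi hse hu₀ hu₀s
  have hcardF : Nat.card (Pts i) = p ^ f := by
    rw [Nat.card_eq_fintype_card, card_pts, hX]; omega
  have hA : 2 * (evenSet G i).ncard + 1 = Nat.card (Pts i) := by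
    rw [ncard_evenSet c, hcount, hcardF, hX]; omega
  have h0 : (0 : Pts i) ∉ evenSet G i := by
    rintro ⟨k, -, -, hk⟩
    exact hk.ne_zero rfl
  -- the even elements commute
  have hcommG : ∀ k ∈ Hgp G i, sgn G X k = 1 → ∀ k' ∈ Hgp G i, sgn G X k' = 1 →
      k * k' = k' * k := by
    intro k hk hk1 k' hk' hk1'
    have h1 := hinv k hk hk1
    have h2 := hinv k' hk' hk1'
    have h3 := hinv (k * k') ((Hgp G i).mul_mem hk hk') (by rw [map_mul, hk1, hk1', one_mul])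
    have h4 : s * (k * k') * s⁻¹ = (s * k * s⁻¹) * (s * k' * s⁻¹) := by group
    rw [h4, h1, h2, mul_inv_rev] at h3
    have h5 : (k⁻¹ * k'⁻¹)⁻¹ = (k'⁻¹ * k⁻¹)⁻¹ := by rw [h3]
    rw [mul_inv_rev, mul_inv_rev, inv_inv, inv_inv] at h5
    exact h5.symm
  have hcomm : ∀ a ∈ evenSet G i, ∀ b ∈ evenSet G i, a * b = b * a := by
    rintro a ⟨k, hk, hk1, hka⟩ b ⟨k', hk', hk1', hkb⟩
    have h1 := hka.mul hkb
    have h2 := hkb.mul hka
    rw [hcommG k hk hk1 k' hk' hk1'] at h1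
    exact (h1.eq_right h2).symm
  have hnorm : ∀ a ∈ evenSet G i, ∀ c' d : Pts i, c' * d = 1 → d * c' = 1 →
      c' * a * d ∈ evenSet G i := by
    rintro a ⟨k, hk, hk1, hka⟩ c' d hcd hdc
    have hc0 : c' ≠ 0 := by
      rintro rfl
      rw [zero_mul'] at hcd
      exact Cfsg.NearField.zero_ne_one hcd
    obtain ⟨g, hg⟩ := c.exists_rep hc0
    have hginv : Rep i g⁻¹ d := hg.inv hdc
    refine ⟨g⁻¹ * (k * g), ?_, ?_, hginv.mul (hka.mul hg)⟩
    · exact (Hgp G i).mul_mem ((Hgp G i).inv_mem hg.mem_Hgp) ((Hgp G i).mul_mem hk hg.mem_Hgp)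
    · rw [map_mul, map_mul, hk1, one_mul, ← map_mul, inv_mul_cancel, map_one]
  have hsq : ∀ c' : Pts i, c' ≠ 0 → c' * c' ∈ evenSet G i := by
    intro c' hc0
    obtain ⟨g, hg⟩ := c.exists_rep hc0
    refine ⟨g * g, (Hgp G i).mul_mem hg.mem_Hgp hg.mem_Hgp, ?_, hg.mul hg⟩
    rw [map_mul]
    exact Int.units_mul_self _
  have hmulcomm := mul_comm_of_index_two c.hadd hp hp2 hf hcardF hA h0 hcomm hnorm hsq
  exact ⟨hmulcomm, hinv, hA, u₀, hu₀, hu₀s⟩

end Cfsg.Agent.Lib.H4.S3T.Odd
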