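import Mathlib
import Cfsg.Agent.Lib.H4.S3T.Odd.Abelian
import Cfsg.Agent.Lib.H4.S3T.Odd.KT
import Cfsg.Agent.Lib.H4.S3T.Field

/-!
# Exclusion of the twisted inversion
-/

set_option autoImplicit false

namespace Cfsg.Agent.Lib.H4.S3T.Odd

open MulAction Cfsg.Agent.Lib.H4.NF Cfsg.Agent.Lib.H4.S3T

variable {G : Type*} [Group G] {X : Type*} [MulAction G X] [Fintype X] [DecidableEq X]
  {i : X} [Cfsg.NearField (Pts i)]

theorem twisted_false [Finite G] (c : Ctx G X i) {p : ℕ} (hp : p.Prime) (hp2 : p ≠ 2)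
    (hchar : ∀ x : Pts i, p • x = 0) (hmc : ∀ x y : Pts i, x * y = y * x)
    (hA : 2 * (evenSet G i).ncard + 1 = Nat.card (Pts i)) {s : G}
    (hsz : s • ((0 : Pts i) : X) = i) (hsi : s • i = ((0 : Pts i) : X))
    (hse : s • ((1 : Pts i) : X) = ((1 : Pts i) : X))
    (hinv : ∀ k ∈ Hgp G i, sgn G X k = 1 → s * k * s⁻¹ = k⁻¹)
    {w : G} (hwH : w ∈ Hgp G i) (hwsgn : sgn G X w = 1) (hww : w * w = 1) (hw1 : w ≠ 1)
    (htw : ∀ k ∈ Hgp G i, sgn G X k = -1 → s * k * s⁻¹ = w * k⁻¹) : False := by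
  classical
  have h1n := one_ne_neg_one hp hp2 hchar
  have hzi : ((0 : Pts i) : X) ≠ i := (0 : Pts i).2
  have hadd := c.hadd
  obtain ⟨ζ, hζ⟩ := c.exists_rep_of_mem hwH
  have hζ1 : ζ = -1 := c.rep_neg_one_of_involution hζ hww hw1
  rw [hζ1] at hζ
  -- the action of `s` on the nonzero points
  have hρne : ∀ x : Pts i, x ≠ 0 → s • x.1 ≠ i := by
    intro x hx h
    apply hx
    apply Subtype.ext
    have : s • x.1 = s • ((0 : Pts i) : X) := by rw [h, hsz]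
    exact smul_left_cancel s this
  obtain ⟨ρ, hρ⟩ : ∃ ρ : Pts i → Pts i, ∀ x : Pts i, x ≠ 0 → (ρ x).1 = s • x.1 := by
    refine ⟨fun x => if hx : x = 0 then 0 else ⟨s • x.1, hρne x hx⟩, fun x hx => ?_⟩
    show ((if hx : x = 0 then 0 else ⟨s • x.1, hρne x hx⟩ : Pts i) : X) = s • x.1
    rw [dif_neg hx]
  -- the conjugation formula
  have hconj : ∀ (k : G) (x : Pts i), Rep i k x → s • x.1 = (s * k * s⁻¹) • ((1 : Pts i) : X) := by
    intro k x hk
    rw [mul_smul, mul_smul, inv_smul_eq_iff.2 hse.symm, hk.smul_one]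
  have h0 : (0 : Pts i) ∉ evenSet G i := by
    rintro ⟨k, -, -, hk⟩
    exact hk.ne_zero rfl
  have h1 : (1 : Pts i) ∈ evenSet G i := ⟨1, (Hgp G i).one_mem, map_one _, Rep.one⟩
  have hneg : (-1 : Pts i) ∈ evenSet G i := ⟨w, hwH, hwsgn, hζ⟩
  have hmul : ∀ a ∈ evenSet G i, ∀ b ∈ evenSet G i, a * b ∈ evenSet G i := by
    rintro a ⟨k, hk, hk1, hka⟩ b ⟨k', hk', hk1', hkb⟩
    exact ⟨k' * k, (Hgp G i).mul_mem hk' hk, by rw [map_mul, hk1, hk1', one_mul], hkb.mul hka⟩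
  have hinvA : ∀ a ∈ evenSet G i, ∃ b ∈ evenSet G i, a * b = 1 := by
    rintro a ⟨k, hk, hk1, hka⟩
    obtain ⟨b, hab, hba⟩ := exists_inv' hka.ne_zero
    exact ⟨b, ⟨k⁻¹, (Hgp G i).inv_mem hk, by rw [map_inv, hk1, inv_one], hka.inv hba⟩, hab⟩
  have hρA : ∀ x ∈ evenSet G i, x * ρ x = 1 := by
    rintro x ⟨k, hk, hk1, hkx⟩
    obtain ⟨b, hab, hba⟩ := exists_inv' hkx.ne_zero
    have h3 : (ρ x).1 = b.1 := by
      rw [hρ x hkx.ne_zero, hconj k x hkx, hinv k hk hk1, (hkx.inv hba).smul_one]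
    rw [Subtype.ext h3, hab]
  have hρN : ∀ x, x ∉ evenSet G i → x ≠ 0 → x * ρ x = -1 := by
    intro x hxA hx0
    obtain ⟨k, hkx⟩ := c.exists_rep hx0
    have hk : k ∈ Hgp G i := hkx.mem_Hgp
    have hks : sgn G X k = -1 := by
      rcases Int.units_eq_one_or (sgn G X k) with h | h
      · exact absurd ⟨k, hk, h, hkx⟩ hxA
      · exact h
    obtain ⟨b, hab, hba⟩ := exists_inv' hx0
    have h3 : (ρ x).1 = (-b : Pts i).1 := by
      rw [hρ x hx0, hconj k x hkx, htw k hk hks, mul_smul, (hkx.inv hba).smul_one, hζ.2,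
        mul_neg_one' hadd h1n]
    rw [Subtype.ext h3, mul_neg' hadd h1n, hab]
  -- the Kerby–Wefelscheid identity
  have hρneg1 : s • ((-1 : Pts i) : X) = ((-1 : Pts i) : X) := by
    have h3 := hρA (-1) hneg
    have h4 : ρ (-1) = -1 := by
      have : (-1 : Pts i) * ρ (-1) = (-1) * (-1) := by rw [h3, neg_one_mul_neg_one]
      exact mul_left_cancel' (neg_ne_zero.2 one_ne_zero') this
    rw [← hρ (-1) (neg_ne_zero.2 one_ne_zero'), h4]
  have hKT : ∀ x, x ≠ 0 → x + 1 ≠ 0 → ρ x + 1 ≠ 0 → ρ (ρ x + 1) = -ρ (x + 1) + 1 := by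
    intro x hx0 hx1 hy0
    obtain ⟨t, hti, ht⟩ := c.h2 1 1 one_ne_zero'
    obtain ⟨A', hAi, hA'⟩ := c.h2 (-1) 1 (neg_ne_zero.2 one_ne_zero')
    have ht' : ∀ y : Pts i, t • y.1 = (y + 1 : Pts i).1 := by
      intro y; rw [ht, mul_one]
    have hA'' : ∀ y : Pts i, A' • y.1 = (-y + 1 : Pts i).1 := by
      intro y; rw [hA', mul_neg_one' hadd h1n]
    have hn1 : ((-1 : Pts i) : X) ≠ i := (-1 : Pts i).2
    have hn1z : ((-1 : Pts i) : X) ≠ ((0 : Pts i) : X) := fun e =>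
      (neg_ne_zero.2 one_ne_zero') (Subtype.ext e)
    have hgg : s * t * s = A' * s * t := by
      apply c.sharp.eq_of_agree hzi.symm hn1.symm hn1z.symm
      · rw [mul_smul, mul_smul, hsi, ht', zero_add, hse, mul_smul, mul_smul, hti, hsi, hA'',
          neg_zero, zero_add]
      · rw [mul_smul, mul_smul, hsz, hti, hsi, mul_smul, mul_smul, ht', zero_add, hse, hA'',
          neg_add_cancel]
      · rw [mul_smul, mul_smul, hρneg1, ht', neg_add_cancel, hsz, mul_smul, mul_smul, ht',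
          neg_add_cancel, hsz, hAi]
    have h3 : (s * t * s) • x.1 = (A' * s * t) • x.1 := by rw [hgg]
    rw [mul_smul, mul_smul, ← hρ x hx0, ht', ← hρ _ hy0, mul_smul, mul_smul, ht', ← hρ _ hx1,
      hA''] at h3
    exact Subtype.ext h3
  have h11 : (1 : Pts i) + 1 ≠ 0 := by
    intro h
    exact h1n (eq_neg_of_add_eq_zero_left h)
  letI fld : Field (Pts i) := fieldOfComm (Pts i) hadd hmc
  have h2 : (2 : Pts i) ≠ 0 := by
    intro h
    rw [← one_add_one_eq_two] at h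
    exact h11 h
  exact kt_false h2 (evenSet G i) h0 h1 hneg hmul hinvA hA ρ hρA hρN hKT

end Cfsg.Agent.Lib.H4.S3T.Odd
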