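import Mathlib
import Cfsg.Agent.Lib.H4.S3T.Odd.Twisted

/-!
# The two-point stabilizer is inverted by the involution `s`
-/

set_option autoImplicit false

namespace Cfsg.Agent.Lib.H4.S3T.Odd

open MulAction Cfsg.Agent.Lib.H4.NF Cfsg.Agent.Lib.H4.S3T

variable {G : Type*} [Group G] {X : Type*} [MulAction G X] [Fintype X] [DecidableEq X]
  {i : X} [Cfsg.NearField (Pts i)]

theorem key [Finite G] (c : Ctx G X i) {p f : ℕ} (hp : p.Prime) (hp2 : p ≠ 2)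
    (hf : Odd f) (hX : Fintype.card X = p ^ f + 1) (hchar : ∀ x : Pts i, p • x = 0) {s : G}
    (hsz : s • ((0 : Pts i) : X) = i) (hsi : s • i = ((0 : Pts i) : X))
    (hse : s • ((1 : Pts i) : X) = ((1 : Pts i) : X)) :
    (∀ x y : Pts i, x * y = y * x) ∧ (∀ k ∈ Hgp G i, s * k * s⁻¹ = k⁻¹) := by
  classical
  obtain ⟨hmc, hinv, hA, u₀, hu₀, hu₀s⟩ := nf_mul_comm c hp hp2 hf hX hchar hsz hsi hse
  refine ⟨hmc, ?_⟩
  have hzi : ((0 : Pts i) : X) ≠ i := (0 : Pts i).2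
  have heven : Even (Fintype.card X) := by
    rw [hX]; exact ((hp.odd_of_ne_two hp2).pow).add_one
  have hss : s * s = 1 := (sgn_of_swap_fix c.sharp heven hzi hsz hsi hse).1
  have hsinv : s⁻¹ = s := inv_eq_of_mul_eq_one_left hss
  -- the two-point stabilizer is abelian
  have habel : ∀ k ∈ Hgp G i, ∀ k' ∈ Hgp G i, k * k' = k' * k := by
    intro k hk k' hk'
    obtain ⟨a, ha⟩ := c.exists_rep_of_mem hk
    obtain ⟨a', ha'⟩ := c.exists_rep_of_mem hk'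
    have h1 := ha.mul ha'
    have h2 := ha'.mul ha
    rw [hmc a' a] at h1
    exact c.eq_left h1 h2
  have hσmem : ∀ k ∈ Hgp G i, s * k * s⁻¹ ∈ Hgp G i := by
    intro k hk
    rw [hsinv, mem_Hgp]
    constructor
    · rw [mul_smul, mul_smul, hsi, (mem_Hgp.1 hk).2, hsz]
    · rw [mul_smul, mul_smul, hsz, (mem_Hgp.1 hk).1, hsi]
  obtain ⟨σ₀, hσ₀⟩ : ∃ σ₀ : G, σ₀ = s * u₀ * s⁻¹ := ⟨_, rfl⟩
  have hσ₀H : σ₀ ∈ Hgp G i := hσ₀ ▸ hσmem u₀ hu₀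
  have hσ₀s : sgn G X σ₀ = -1 := by
    rw [hσ₀, map_mul, map_mul, map_inv, hu₀s, mul_comm (sgn G X s), mul_assoc, mul_inv_cancel,
      mul_one]
  obtain ⟨w, hw⟩ : ∃ w : G, w = u₀ * σ₀ := ⟨_, rfl⟩
  have hwH : w ∈ Hgp G i := hw ▸ (Hgp G i).mul_mem hu₀ hσ₀H
  have hwsgn : sgn G X w = 1 := by
    rw [hw, map_mul, hu₀s, hσ₀s]
    rfl
  have hww : w * w = 1 := by
    have hu2 : sgn G X (u₀ * u₀) = 1 := by
      rw [map_mul]; exact Int.units_mul_self _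
    have h1 := hinv (u₀ * u₀) ((Hgp G i).mul_mem hu₀ hu₀) hu2
    have h2 : σ₀ * σ₀ = (u₀ * u₀)⁻¹ := by
      rw [← h1, hσ₀]; group
    have hc := habel u₀ hu₀ σ₀ hσ₀H
    calc w * w = u₀ * (σ₀ * u₀) * σ₀ := by rw [hw]; group
      _ = u₀ * (u₀ * σ₀) * σ₀ := by rw [← hc]
      _ = (u₀ * u₀) * (σ₀ * σ₀) := by group
      _ = 1 := by rw [h2, mul_inv_cancel]
  -- the formula on the odd elements
  have hodd : ∀ k ∈ Hgp G i, sgn G X k = -1 → s * k * s⁻¹ = w * k⁻¹ := by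
    intro k hk hks
    obtain ⟨h, hh⟩ : ∃ h : G, h = u₀⁻¹ * k := ⟨_, rfl⟩
    have hhH : h ∈ Hgp G i := hh ▸ (Hgp G i).mul_mem ((Hgp G i).inv_mem hu₀) hk
    have hhs : sgn G X h = 1 := by
      rw [hh, map_mul, map_inv, hu₀s, hks]
      rfl
    have e1 := hinv h hhH hhs
    have hk' : k = u₀ * h := by rw [hh]; group
    have e2 : σ₀ = u₀⁻¹ * w := by rw [hw]; group
    have e3 : u₀⁻¹ * w = w * u₀⁻¹ := habel _ ((Hgp G i).inv_mem hu₀) _ hwH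
    calc s * k * s⁻¹ = (s * u₀ * s⁻¹) * (s * h * s⁻¹) := by rw [hk']; group
      _ = (w * u₀⁻¹) * h⁻¹ := by rw [e1, ← hσ₀, e2, e3]
      _ = w * (h * u₀)⁻¹ := by rw [mul_inv_rev, mul_assoc]
      _ = w * (u₀ * h)⁻¹ := by rw [habel h hhH u₀ hu₀]
      _ = w * k⁻¹ := by rw [← hk']
  by_cases hw1 : w = 1
  · intro k hk
    rcases Int.units_eq_one_or (sgn G X k) with h1 | h1
    · exact hinv k hk h1
    · rw [hodd k hk h1, hw1, one_mul]
  · exact (twisted_false c hp hp2 hchar hmc hA hsz hsi hse hinv hwH hwsgn hww hw1 hodd).elim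

end Cfsg.Agent.Lib.H4.S3T.Odd
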