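import Mathlib
import Cfsg.Agent.Lib.H4.S3T.PGL

/-!
# `PGL₂` from the affine description of a point stabilizer and the inversion
-/

set_option autoImplicit false

namespace Cfsg.Agent.Lib.H4.S3T.Odd

open MulAction Matrix Projectivization Cfsg.Agent.Lib.H2.ProjLine Cfsg.Agent.Lib.H4.S3T
open scoped LinearAlgebra.Projectivization MatrixGroups

variable {G : Type*} [Group G] {X : Type*} [MulAction G X] [DecidableEq X]

theorem nonempty_PGL_of_data (h : Sharp3 G X) (i : X) [Field (Pts i)]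
    (h1 : ∀ g : G, g • i = i → ∃ a b : Pts i, a ≠ 0 ∧ ∀ x : Pts i, g • x.1 = (a * x + b).1)
    (h2 : ∀ a b : Pts i, a ≠ 0 → ∃ g : G, g • i = i ∧ ∀ x : Pts i, g • x.1 = (a * x + b).1)
    {s : G} (hsz : s • ((0 : Pts i) : X) = i) (hsi : s • i = ((0 : Pts i) : X))
    (hsinv : ∀ a : Pts i, a ≠ 0 → s • a.1 = (a⁻¹ : Pts i).1) :
    Nonempty (G ≃* PGL(Fin 2, Pts i)) := by
  classical
  apply nonempty_mulEquiv_of_compat h (toLine i)
  -- elements of the stabilizer
  have hstab : ∀ g : G, g • i = i → ∃ γ : PGL(Fin 2, Pts i), Compat (toLine i) g γ := by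
    intro g hg
    obtain ⟨a, b, ha, hab⟩ := h1 g hg
    refine ⟨ProjGenLinGroup.mk (affM a b ha), fun x => ?_⟩
    by_cases hx : x = i
    · rw [hx, hg, toLine_self, affM_smul_none]
    · have : x = (⟨x, hx⟩ : Pts i).1 := rfl
      rw [this, hab, toLine_coe, toLine_coe, affM_smul_some]
  have hs : Compat (toLine i) s (ProjGenLinGroup.mk swapM) := by
    intro x
    by_cases hx : x = i
    · rw [hx, hsi, toLine_self, toLine_coe, swapM_smul_none]
    · obtain ⟨a, rfl⟩ : ∃ a : Pts i, x = a.1 := ⟨⟨x, hx⟩, rfl⟩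
      by_cases ha : a = 0
      · rw [ha, hsz, toLine_self, toLine_coe, swapM_smul_zero]
      · rw [hsinv a ha, toLine_coe, toLine_coe, swapM_smul_some ha]
  intro g
  by_cases hg : g • i = i
  · exact hstab g hg
  · obtain ⟨c, hc⟩ : ∃ c : Pts i, g • i = c.1 := ⟨⟨g • i, hg⟩, rfl⟩
    obtain ⟨t, hti, ht⟩ := h2 1 (-c) one_ne_zero
    have htc : t • c.1 = ((0 : Pts i) : X) := by
      rw [ht, one_mul, add_neg_cancel]
    have hk : (s * t * g) • i = i := by
      rw [mul_smul, mul_smul, hc, htc, hsz]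
    obtain ⟨κ, hκ⟩ := hstab _ hk
    obtain ⟨τ, hτ⟩ := hstab t hti
    have := (hτ.inv.mul hs.inv).mul hκ
    have e : t⁻¹ * s⁻¹ * (s * t * g) = g := by group
    rw [e] at this
    exact ⟨_, this⟩

end Cfsg.Agent.Lib.H4.S3T.Odd
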