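import Mathlib
import Cfsg.Agent.Lib.H4.S3T.Odd.Key
import Cfsg.Agent.Lib.H4.S3T.Odd.PGLData
import Cfsg.Agent.Lib.H4.S3T.Small

/-!
# A sharply triply transitive group of degree `p ^ f + 1`, `p` and `f` odd, is `PGL₂(p ^ f)`
-/

set_option autoImplicit false

namespace Cfsg.Agent.Lib.H4.S3T.Odd

open MulAction Matrix Cfsg.Agent.Lib.H4.NF Cfsg.Agent.Lib.H4.S3T
open scoped MatrixGroups

variable {G : Type*} [Group G] {X : Type*} [MulAction G X] [Fintype X] [DecidableEq X]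

theorem exists_PGL_odd [Finite G] (h : Sharp3 G X) {p f : ℕ} (hp : p.Prime) (hp2 : p ≠ 2)
    (hf : Odd f) (hX : Fintype.card X = p ^ f + 1) (i : X) :
    ∃ _ : Field (Pts i), Nonempty (G ≃* PGL(Fin 2, Pts i)) := by
  classical
  have hqpos : 0 < p ^ f := pow_pos hp.pos f
  have hq3 : 3 ≤ p ^ f := by
    have h3 : 3 ≤ p := by
      have := hp.two_le
      omega
    obtain ⟨j, hj⟩ := hf
    calc 3 ≤ p := h3
      _ = p ^ 1 := (pow_one p).symm
      _ ≤ p ^ f := Nat.pow_le_pow_right hp.pos (by omega)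
  have hcard3 : 3 ≤ Fintype.card X := by omega
  obtain ⟨nf, h1, h2⟩ := exists_nearField h hcard3 i
  letI : Cfsg.NearField (Pts i) := nf
  obtain ⟨p', j, hp', -, hcardF', hadd, hchar'⟩ := Cfsg.Agent.S0682.result (F := Pts i)
  have hcardF : Nat.card (Pts i) = p ^ f := by
    rw [Nat.card_eq_fintype_card, card_pts, hX]; omega
  have hpp : p' = p := by
    have hdvd : p' ∣ p ^ f := by
      rw [← hcardF, hcardF']
      have hj0 : j ≠ 0 := by
        rintro rfl
        rw [pow_zero] at hcardF'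
        omega
      exact dvd_pow_self p' hj0
    exact (Nat.prime_dvd_prime_iff_eq hp' hp).1 (hp'.dvd_of_dvd_pow hdvd)
  have hchar : ∀ x : Pts i, p • x = 0 := by
    intro x; rw [← hpp]; exact hchar' x
  have c : Ctx G X i := ⟨h, h1, h2, hadd⟩
  -- the three base points and the involution
  have hzi : ((0 : Pts i) : X) ≠ i := (0 : Pts i).2
  have hei : ((1 : Pts i) : X) ≠ i := (1 : Pts i).2
  have hze : ((0 : Pts i) : X) ≠ ((1 : Pts i) : X) := fun e =>
    Cfsg.NearField.zero_ne_one (Subtype.ext e)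
  obtain ⟨s, hsz, hsi, hse⟩ := h.t3 ((0 : Pts i) : X) i ((1 : Pts i) : X) i ((0 : Pts i) : X)
    ((1 : Pts i) : X) hzi hze hei.symm hzi.symm hei.symm hze
  obtain ⟨hmc, hkey⟩ := key c hp hp2 hf hX hchar hsz hsi hse
  have hsinv' : ∀ a : Pts i, a ≠ 0 → ∃ b : Pts i, a * b = 1 ∧ s • a.1 = b.1 := by
    intro a ha
    obtain ⟨k, hk⟩ := c.exists_rep ha
    obtain ⟨b, hab, hba⟩ := exists_inv' ha
    refine ⟨b, hab, ?_⟩
    rw [← hk.smul_one]
    calc s • k • ((1 : Pts i) : X) = (s * k * s⁻¹) • s • ((1 : Pts i) : X) := by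
          rw [mul_smul, mul_smul, inv_smul_smul]
      _ = b.1 := by rw [hse, hkey k hk.mem_Hgp, (hk.inv hba).smul_one]
  letI fld : Field (Pts i) := fieldOfComm (Pts i) hadd hmc
  refine ⟨fld, ?_⟩
  apply nonempty_PGL_of_data h i _ _ hsz hsi
  · intro a ha
    obtain ⟨b, hab, hsb⟩ := hsinv' a ha
    rw [hsb]
    have : b = a⁻¹ := eq_inv_of_mul_eq_one_right hab
    rw [this]
  · intro g hg
    obtain ⟨a, b, ha, hab⟩ := h1 g hg
    refine ⟨a, b, ha, fun x => ?_⟩
    rw [hab x, hmc x a]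
    rfl
  · intro a b ha
    obtain ⟨g, hg, hab⟩ := h2 a b ha
    refine ⟨g, hg, fun x => ?_⟩
    rw [hab x, hmc x a]
    rfl

/-- the same with the field in the lowest universe -/
theorem exists_PGL_odd_small {G : Type*} [Group G] [Finite G] {X : Type*} [MulAction G X]
    [Fintype X] (h : Sharp3 G X) {p f : ℕ} (hp : p.Prime) (hp2 : p ≠ 2) (hf : Odd f)
    (hX : Fintype.card X = p ^ f + 1) :
    ∃ (F : Type) (_ : Field F) (_ : Fintype F), Fintype.card F = p ^ f ∧
      Nonempty (G ≃* PGL(Fin 2, F)) := by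
  classical
  obtain ⟨n, hn⟩ : ∃ n : ℕ, n = Fintype.card X := ⟨_, rfl⟩
  have e : Fin n ≃ X := (Fintype.equivFinOfCardEq hn.symm).symm
  let act : MulAction G (Fin n) := Equiv.mulAction G e
  have he : ∀ (g : G) (y : Fin n), e (g • y) = g • e y := by
    intro g y
    rw [Equiv.smul_def, Equiv.apply_symm_apply]
  have hS' : Sharp3 G (Fin n) := Sharp3.of_equiv e he h
  have hX' : Fintype.card (Fin n) = p ^ f + 1 := by
    rw [Fintype.card_fin, hn]; exact hX
  have hn0 : 0 < n := by omega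
  obtain ⟨fld, ⟨φ⟩⟩ := exists_PGL_odd hS' hp hp2 hf hX' (⟨0, hn0⟩ : Fin n)
  refine ⟨Pts (⟨0, hn0⟩ : Fin n), fld, inferInstance, ?_, ⟨φ⟩⟩
  rw [Fintype.card_subtype_compl, Fintype.card_fin, Fintype.card_subtype_eq, hn, hX]
  omega

end Cfsg.Agent.Lib.H4.S3T.Odd
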